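/-! Generated data: words for the last step. -/

set_option autoImplicit false
set_option maxRecDepth 20000

namespace Cfsg.Lib.J4Aut

/-- A word from the first involution of the class to the chosen one. -/
def toChosen : List Nat :=
  [2, 0, 2, 0, 2, 0, 2, 0, 3, 0]

/-- A word to the second survivor. -/
def survWord : List Nat :=
  [2, 1, 0, 1, 0, 1, 0, 1, 0, 4, 0, 10, 3, 4, 4, 3, 4, 3, 4, 4, 3, 4, 3, 4, 4, 3, 4, 4, 3, 4, 4, 2, 1, 1, 0, 1, 1, 0, 1, 1, 0, 1, 0, 1, 1, 0, 1, 0, 1, 1, 0, 3, 1, 3, 4, 3, 4, 3, 4, 3, 4]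

/-- The product of generators that is moved into the normal subgroup. -/
def starSel : List Nat :=
  [0, 1, 1, 0, 1, 1, 0, 1, 1, 0, 1, 1, 0, 1, 1, 0, 1, 1]

/-- Words from the first point to every point. -/
def reachSel : List (List Nat) :=
  [[0, 1, 1, 0, 1], [0, 1], [0, 1, 0, 1], [0, 1, 0, 1, 0], [1, 0, 1, 1, 1], [0], [0, 1, 0], [1, 0, 1, 0], [1, 1, 1], [1, 1, 1, 0, 1, 0, 1, 0], [1, 1, 0, 1, 1, 1], [1, 1, 0, 1, 0, 1, 0], [0, 1, 1], [1], [1, 0], [0, 1, 1, 1], [1, 0, 1], [0, 1, 0, 1, 1], [1, 1], [1, 0, 1, 0, 1, 0], [1, 0, 1, 0, 1, 1, 1], [0, 1, 0, 1, 1, 1], [1, 0, 1, 0, 1, 1], [1, 0, 1, 1]]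

/-- A word fixing the first point only. -/
def onlySel : List Nat :=
  [0, 1, 1, 0, 1]

end Cfsg.Lib.J4Aut
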