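import Cfsg.Agent.Lib.J4Aut.Syl

/-!
# The normal subgroup of order `2^11` is weakly closed in a Sylow 2-subgroup
-/

set_option autoImplicit false
set_option maxRecDepth 20000

open scoped Pointwise

namespace Cfsg.Lib.J4Aut

open Cfsg.Lib.J4Iso
open Cfsg.Lib.J4Pres (TwoGroup twoGen)
open Cfsg.Lib.J4Real (kPts)
open Cfsg.Lib.Concrete (Rep)

/-- A Sylow 2-subgroup. -/
noncomputable def P2 : Subgroup PG := (S24.comap proj).map MG.subtype

theorem mem_P2 {x : PG} : x ∈ P2 ↔ ∃ v, ∃ a ∈ S24, x = eG v * kG a := by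
  constructor
  · rintro ⟨⟨y, v, a, rfl⟩, hy, rfl⟩
    refine ⟨v, a, ?_, rfl⟩
    have : proj ⟨eG v * kG a, v, a, rfl⟩ ∈ S24 := hy
    exact (congrArg (· ∈ S24) (proj_eq v a ⟨v, a, rfl⟩)).mp this
  · rintro ⟨v, a, ha, rfl⟩
    exact ⟨⟨_, v, a, rfl⟩, (congrArg (· ∈ S24) (proj_eq v a ⟨v, a, rfl⟩)).mpr ha, rfl⟩

theorem P2_le : P2 ≤ MG := Subgroup.map_subtype_le _

theorem EG_le_P2 : EG ≤ P2 := by
  rintro _ ⟨v, rfl⟩
  exact mem_P2.2 ⟨v, 1, one_mem _, by rw [map_one, mul_one]⟩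

theorem card_P2 : Nat.card P2 = 2 ^ 21 := by
  let f : Fin 2048 × S24 → P2 := fun p => ⟨eG p.1 * kG p.2.1, mem_P2.2 ⟨_, _, p.2.2, rfl⟩⟩
  have hf : Function.Bijective f := by
    refine ⟨fun p q h => ?_, fun x => ?_⟩
    · obtain ⟨h1, h2⟩ := unique_pair (congrArg Subtype.val h)
      rw [Nat.mod_eq_of_lt p.1.2, Nat.mod_eq_of_lt q.1.2] at h1
      exact Prod.ext (Fin.ext h1) (Subtype.ext h2)
    · obtain ⟨v, a, ha, e⟩ := mem_P2.1 x.2
      exact ⟨(⟨v % 2048, Nat.mod_lt _ (by norm_num)⟩, ⟨a, ha⟩),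
        Subtype.ext ((congrArg (· * kG a) (eG_mod v)).trans e.symm)⟩
  rw [← Nat.card_congr (Equiv.ofBijective f hf), Nat.card_prod, Nat.card_fin, card_S24]
  norm_num

theorem card_PG : Nat.card PG = 86775571046077562880 := by
  rw [Nat.card_congr isoG.toEquiv, J4Real.card_Gsub]

/-- After an inner automorphism the Sylow subgroup is kept. -/
theorem exists_conj_P2 (φ : MulAut PG) :
    ∃ g : PG, P2.map (MulAut.conj g * φ).toMonoidHom = P2 := by
  haveI : Fact (Nat.Prime 2) := ⟨Nat.prime_two⟩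
  have hidx : ∀ H : Subgroup PG, Nat.card H = 2 ^ 21 → ¬ 2 ∣ H.index := by
    intro H hH
    have h := H.card_mul_index
    rw [hH, card_PG] at h
    omega
  let A : Sylow 2 PG := (IsPGroup.of_card card_P2).toSylow (hidx _ card_P2)
  have hc : Nat.card (P2.map φ.toMonoidHom) = 2 ^ 21 := by
    rw [← card_P2]
    exact (Nat.card_congr (P2.equivMapOfInjective φ.toMonoidHom φ.injective).toEquiv).symm
  let B : Sylow 2 PG := (IsPGroup.of_card hc).toSylow (hidx _ hc)
  obtain ⟨g, hg⟩ := MulAction.exists_smul_eq PG B A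
  refine ⟨g, ?_⟩
  have h := congrArg (fun S : Sylow 2 PG => (S : Subgroup PG)) hg
  change MulAut.conj g • (P2.map φ.toMonoidHom) = P2 at h
  rw [Subgroup.pointwise_smul_def] at h
  exact (Subgroup.map_map P2 (MulAut.conj g).toMonoidHom φ.toMonoidHom).symm.trans h

/-- The normal subgroup is the only elementary abelian normal subgroup of its order. -/
theorem eq_EG {F : Subgroup PG} (hle : F ≤ P2) (hcard : Nat.card F = 2048)
    (hsq : ∀ x ∈ F, x * x = 1) (hn : ∀ s ∈ P2, ∀ x ∈ F, s * x * s⁻¹ ∈ F) : F = EG := by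
  classical
  let j : F →* TwoGroup := proj.comp (Subgroup.inclusion (hle.trans P2_le))
  have hj : ∀ (v : ℕ) (a : TwoGroup) (h : eG v * kG a ∈ F), j ⟨_, h⟩ = a := fun v a h =>
    proj_eq v a _
  have hN1 : j.range ≤ S24 := by
    rintro _ ⟨⟨x, hx⟩, rfl⟩
    obtain ⟨v, a, ha, rfl⟩ := mem_P2.1 (hle hx)
    rwa [hj]
  have hN2 : ∀ a ∈ j.range, a * a = 1 := by
    rintro _ ⟨x, rfl⟩
    rw [← map_mul, show x * x = 1 from Subtype.ext (hsq x x.2), map_one]
  have hN3 : ∀ s ∈ S24, ∀ a ∈ j.range, s * a * s⁻¹ ∈ j.range := by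
    rintro s hs _ ⟨⟨x, hx⟩, rfl⟩
    have hks : kG s ∈ P2 := mem_P2.2 ⟨0, s, hs, by rw [eG_zero, one_mul]⟩
    refine ⟨⟨_, hn _ hks x hx⟩, ?_⟩
    have hps : proj ⟨kG s, kG_mem_MG s⟩ = s := by
      have e : (⟨kG s, kG_mem_MG s⟩ : MG) = ⟨eG 0 * kG s, 0, s, rfl⟩ :=
        Subtype.ext (show kG s = eG 0 * kG s by rw [eG_zero, one_mul])
      exact (congrArg proj e).trans (proj_eq 0 s _)
    show proj (⟨kG s, kG_mem_MG s⟩ * Subgroup.inclusion (hle.trans P2_le) ⟨x, hx⟩ *
      (⟨kG s, kG_mem_MG s⟩ : MG)⁻¹) = _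
    rw [map_mul, map_mul, map_inv, hps]
    rfl
  obtain ⟨i, hi, hNi⟩ := exists_normal hN1 hN2 hN3
  have hker : ∀ x : F, j x = 1 → ∃ v, (x : PG) = eG v := by
    rintro ⟨x, hx⟩ h
    obtain ⟨v, a, -, rfl⟩ := mem_P2.1 (hle hx)
    rw [hj] at h
    exact ⟨v, show eG v * kG a = eG v by rw [h, map_one, mul_one]⟩
  by_cases hi0 : i = 0
  · subst hi0
    have hone : ∀ a ∈ j.range, a = 1 := fun a ha => by
      obtain ⟨p, hp, hr⟩ := (hNi ▸ ha : a ∈ nSet 0)
      obtain ⟨h0, h1, -⟩ := start_ok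
      obtain ⟨q, hq⟩ := List.length_eq_one_iff.1 h1
      rw [hq] at hp h0
      simp only [List.mem_singleton] at hp
      simp only [List.getD_cons_zero] at h0
      rw [hp, Nat.eq_of_beq_eq_true h0] at hr
      exact kPts_ext hr (by rw [map_one]; exact rep_idP)
    refine Subgroup.eq_of_le_of_card_ge (fun x hx => ?_) (by rw [hcard, card_EG])
    obtain ⟨v, hv⟩ := hker ⟨x, hx⟩ (hone _ ⟨_, rfl⟩)
    exact ⟨v, hv⟩
  exfalso
  have hfix := List.all_eq_true.1 fix_ok i (List.mem_range.2 hi)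
  simp only [Bool.or_eq_true, Nat.blt_eq] at hfix
  rcases hfix with h | hfix
  · exact hi0 (Nat.eq_of_beq_eq_true h)
  have hr : Nat.card j.range ≤ (sylNormals.getD i []).length := by
    have hs : (j.range : Set TwoGroup) = nSet i := hNi
    have hp : ∀ a : j.range, ∃ p ∈ sylNormals.getD i [], Rep (kPts a.1) p := fun a =>
      (hs ▸ a.2 : a.1 ∈ nSet i)
    choose P hP hR using hp
    have hlt : ∀ a, (sylNormals.getD i []).idxOf (P a) < (sylNormals.getD i []).length := fun a =>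
      List.idxOf_lt_length_iff.2 (hP a)
    refine le_trans (Nat.card_le_card_of_injective
      (fun a => (⟨_, hlt a⟩ : Fin (sylNormals.getD i []).length)) fun a b h => ?_) (by rw [Nat.card_fin])
    have e := (List.idxOf_inj (hP a)).1 (congrArg Fin.val h)
    exact Subtype.ext (kPts_ext (hR a) (e ▸ hR b))
  have hk : Nat.card j.ker ≤ (fixList i).length := by
    have hp : ∀ x : j.ker, ∃ v ∈ fixList i, (x.1 : PG) = eG v := by
      intro x
      obtain ⟨v, hv⟩ := hker x.1 x.2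
      refine ⟨v % 2048, ?_, by rw [eG_mod, hv]⟩
      simp only [fixList, List.mem_filter, List.mem_range, List.all_eq_true, Bool.or_eq_true]
      refine ⟨Nat.mod_lt _ (by norm_num), fun p hp => Or.inr ?_⟩
      obtain ⟨a, ha⟩ := exists_normal.exists_elt i hi p hp
      obtain ⟨f, hf⟩ : a ∈ (j.range : Set TwoGroup) := hNi.symm ▸ ⟨p, hp, ha⟩
      obtain ⟨w, b, -, e⟩ := mem_P2.1 (hle f.2)
      have hb : b = a := by
        rw [← hf, ← hj w b (e ▸ f.2)]
        exact congrArg j (Subtype.ext e.symm)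
      subst hb
      have hc : (f : PG) * eG v = eG v * f := by
        rw [← hv]
        have h1 := hsq _ (mul_mem f.2 x.1.2)
        have i1 := inv_eq_of_mul_eq_one_right (hsq _ f.2)
        have i2 := inv_eq_of_mul_eq_one_right (hsq _ x.1.2)
        have := eq_inv_of_mul_eq_one_left h1
        rwa [mul_inv_rev, i1, i2] at this
      rw [e, mul_assoc, eG_conj b p v ha, ← mul_assoc, ← mul_assoc, eG_mul, eG_mul] at hc
      have hm := eG_inj (mul_right_cancel hc)
      have hm2 : eG (maskImg p v) = eG v := by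
        have h2 := mul_right_cancel hc
        rw [← eG_mul, ← eG_mul, eG_mul v w, Nat.xor_comm v w, ← eG_mul] at h2
        exact mul_left_cancel h2
      have hm3 := eG_inj hm2
      rw [maskImg_low, hm3]
      exact Nat.beq_refl _
    choose V hV hE using hp
    have hlt : ∀ a, (fixList i).idxOf (V a) < (fixList i).length := fun a =>
      List.idxOf_lt_length_iff.2 (hV a)
    refine le_trans (Nat.card_le_card_of_injective
      (fun a => (⟨_, hlt a⟩ : Fin (fixList i).length)) fun a b h => ?_) (by rw [Nat.card_fin])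
    have e := (List.idxOf_inj (hV a)).1 (congrArg Fin.val h)
    exact Subtype.ext (Subtype.ext (by rw [hE a, hE b, e]))
  have h := Subgroup.card_eq_card_quotient_mul_card_subgroup j.ker
  rw [Nat.card_congr (QuotientGroup.quotientKerEquivRange j).toEquiv, hcard] at h
  have := Nat.mul_le_mul hr hk
  rw [mul_comm (sylNormals.getD i []).length] at this
  omega
where
  maskImg_low {p v : ℕ} : maskImg p (v % 2048) = maskImg p v := by
    rw [maskImg_eq, maskImg_eq]
    congr 1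
    refine List.map_congr_left fun b hb => ?_
    rw [show (2048 : ℕ) = 2 ^ 11 by norm_num, Nat.testBit_mod_two_pow]
    simp [List.mem_range.1 hb]

end Cfsg.Lib.J4Aut
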