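import Cfsg.Agent.Lib.J4Iso.Index
import Cfsg.Agent.Lib.J4Real.CentGrp

/-!
# The normal subgroup of `2^11:M24`, its normalizer and the stabilizer of a vector
-/

set_option autoImplicit false
set_option maxRecDepth 20000

namespace Cfsg.Lib.J4Aut

open Cfsg.Lib.J4Iso
open Cfsg.Lib.J4Pres (TwoGroup twoGen)
open Cfsg.Lib.J4Real (jp wp wp_apply wp_winv winv low wp_append wp_single kPts kEmb vecAt vecAt_val
  gWords kOK centVecs)

noncomputable instance finite_PG' : Finite PG := Finite.of_equiv _ isoG.symm.toEquiv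

instance finite_two : Finite TwoGroup := by
  obtain ⟨e⟩ := J4Pres.twoGroup_iso
  exact Finite.of_equiv _ e.symm.toEquiv

theorem card_two : Nat.card TwoGroup = 244823040 := by
  obtain ⟨e⟩ := J4Pres.twoGroup_iso
  rw [Nat.card_congr e.toEquiv, Concrete.card_M24]

theorem eG_mod (v : ℕ) : eG (v % 2048) = eG v := by
  have : ∀ n ≤ 11, eGn n (v % 2048) = eGn n v := by
    intro n
    induction n with
    | zero => intro _; rfl
    | succ n ih =>
      intro hn
      rw [eGn, eGn, ih (by omega), show (2048 : ℕ) = 2 ^ 11 by norm_num, Nat.testBit_mod_two_pow]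
      simp [show n < 11 by omega]
  exact this 11 le_rfl

theorem eG_mem (v : ℕ) : eG v ∈ MG := ⟨v, 1, by rw [map_one, mul_one]⟩

/-- The normal subgroup. -/
noncomputable def EG : Subgroup PG where
  carrier := {x | ∃ v, x = eG v}
  one_mem' := ⟨0, eG_zero.symm⟩
  mul_mem' := by rintro _ _ ⟨a, rfl⟩ ⟨b, rfl⟩; exact ⟨a ^^^ b, eG_mul a b⟩
  inv_mem' := by rintro _ ⟨a, rfl⟩; exact ⟨a, eG_inv a⟩

theorem unique_pair {v w : ℕ} {a b : TwoGroup} (h : eG v * kG a = eG w * kG b) :
    v % 2048 = w % 2048 ∧ a = b := by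
  let f : Fin 2048 × TwoGroup → MG := fun p => ⟨eG p.1 * kG p.2, p.1, p.2, rfl⟩
  have hs : Function.Surjective f := by
    rintro ⟨_, u, c, rfl⟩
    exact ⟨(⟨u % 2048, Nat.mod_lt _ (by norm_num)⟩, c), Subtype.ext (congrArg (· * kG c) (eG_mod u))⟩
  have hb : Function.Bijective f := hs.bijective_of_nat_card_le (by
    rw [Nat.card_prod, Nat.card_fin, card_two, card_MG])
  have e := @hb.1 (⟨v % 2048, Nat.mod_lt _ (by norm_num)⟩, a) (⟨w % 2048, Nat.mod_lt _ (by norm_num)⟩, b)
    (Subtype.ext (by show eG (v % 2048) * kG a = eG (w % 2048) * kG b; rwa [eG_mod, eG_mod]))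
  exact ⟨congrArg (fun p : Fin 2048 × TwoGroup => p.1.val) e, congrArg Prod.snd e⟩

theorem eG_inj {v w : ℕ} (h : eG v = eG w) : v % 2048 = w % 2048 :=
  (unique_pair (a := 1) (b := 1) (by rw [h])).1

theorem kG_inj {a b : TwoGroup} (h : kG a = kG b) : a = b :=
  (unique_pair (v := 0) (w := 0) (by rw [h])).2

theorem card_EG : Nat.card EG = 2048 := by
  have hb : Function.Bijective (fun i : Fin 2048 => (⟨eG i, i, rfl⟩ : EG)) := by
    refine ⟨fun i j h => ?_, ?_⟩
    · have := eG_inj (congrArg Subtype.val h)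
      rw [Nat.mod_eq_of_lt i.2, Nat.mod_eq_of_lt j.2] at this
      exact Fin.ext this
    · rintro ⟨_, v, rfl⟩
      exact ⟨⟨v % 2048, Nat.mod_lt _ (by norm_num)⟩, Subtype.ext (eG_mod v)⟩
  rw [← Nat.card_congr (Equiv.ofBijective _ hb), Nat.card_fin]

/-- The part outside the normal subgroup. -/
noncomputable def proj : MG →* TwoGroup where
  toFun x := Classical.choose (Classical.choose_spec x.2)
  map_one' := ((unique_pair (v := 0) (w := Classical.choose (1 : MG).2) (a := 1) (by
    rw [eG_zero, one_mul, map_one]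
    exact Classical.choose_spec (Classical.choose_spec (1 : MG).2))).2).symm
  map_mul' x y := by
    have hx := Classical.choose_spec (Classical.choose_spec x.2)
    have hy := Classical.choose_spec (Classical.choose_spec y.2)
    have hxy := Classical.choose_spec (Classical.choose_spec (x * y).2)
    set a := Classical.choose (Classical.choose_spec x.2)
    set b := Classical.choose (Classical.choose_spec y.2)
    set v := Classical.choose x.2
    set w := Classical.choose y.2
    obtain ⟨p, hp⟩ : ∃ p, Concrete.Rep (kPts a) p :=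
      ⟨_, (MG.exists_pack a).choose_spec⟩
    refine (unique_pair (v := v ^^^ maskImg p w) (a := a * b) (hxy.symm.trans ?_).symm).2.symm
    rw [Subgroup.coe_mul, hx, hy, map_mul, ← eG_mul, ← mul_assoc, ← mul_assoc, mul_assoc (eG v) (kG a),
      eG_conj a p w hp, ← mul_assoc]

theorem proj_eq (v : ℕ) (a : TwoGroup) (h : eG v * kG a ∈ MG) : proj ⟨eG v * kG a, h⟩ = a :=
  (unique_pair (Classical.choose_spec (Classical.choose_spec h))).2.symm

theorem piG_kG_word {w : List ℕ} (hw : ∀ g ∈ w, g < 4) :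
    piG (kG (w.map twoGen).prod) = wp (w.map J4Real.kLetter) := by
  rw [piG_kG, map_list_prod, wp, List.map_map, List.map_map]
  exact congrArg List.prod (List.map_congr_left fun g hg => (J4Real.kPts_spec.2 g (hw g hg)).1)

theorem gl_two : gl 2 = gt := by rw [gl, if_pos (by norm_num), gl6]; rfl

theorem piG_gt : piG gt = jp 2 := by rw [← gl_two, piG_gl (by norm_num)]

theorem rep_checks : ((List.range 7).all fun j => low (gWords.getD j []) && (Nat.beq j 0 ||
    (!(Nat.beq (J4Pres.applyWord J4Real.rows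
        (gWords.getD j [] ++ ([6] ++ (winv (gWords.getD j []) ++ [6]))) J4Real.seedVec)
      (J4Pres.applyWord J4Real.rows
        ([6] ++ (gWords.getD j [] ++ ([6] ++ winv (gWords.getD j [])))) J4Real.seedVec)) &&
    !(Nat.beq (J4Pres.applyWord J4Real.rows (gWords.getD j []) (centVecs.getD 0 0))
      (centVecs.getD 0 0))))) = true := by decide +kernel

theorem piG_gG {j : ℕ} (hj : j < 7) : piG (gG j) = wp (gWords.getD j []) := by
  refine piG_gw ?_
  have := List.all_eq_true.1 rep_checks j (List.mem_range.2 hj)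
  simp only [Bool.and_eq_true] at this
  exact this.1

theorem winv_low {w : List ℕ} (h : low w = true) : low (winv w) = true := by
  simp only [low, List.all_eq_true, Nat.blt_eq, winv, List.mem_map, List.mem_reverse] at h ⊢
  rintro g ⟨a, ha, rfl⟩
  have := h a ha
  unfold J4Real.flipX
  split_ifs <;> omega

theorem low_lt {w : List ℕ} (h : low w = true) : ∀ g ∈ w, g < 20 := fun g hg => by
  simp only [low, List.all_eq_true, Nat.blt_eq] at h
  exact lt_trans (h g hg) (by norm_num)

theorem conj_EG {m : PG} (hm : m ∈ MG) {e : PG} (he : e ∈ EG) : m * e * m⁻¹ ∈ EG := by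
  obtain ⟨v, a, rfl⟩ := hm
  obtain ⟨w, rfl⟩ := he
  obtain ⟨p, hp⟩ : ∃ p, Concrete.Rep (kPts a) p := ⟨_, (MG.exists_pack a).choose_spec⟩
  refine ⟨v ^^^ maskImg p w ^^^ v, ?_⟩
  rw [mul_inv_rev, eG_inv, show eG v * kG a * eG w * ((kG a)⁻¹ * eG v) =
    eG v * (kG a * eG w) * (kG a)⁻¹ * eG v by group, eG_conj a p w hp, ← mul_assoc (eG v),
    mul_inv_cancel_right, eG_mul, eG_mul]

/-- The subgroup is the normalizer of its normal subgroup. -/
theorem mem_MG_of_normalizes {x : PG} (h : ∀ e ∈ EG, x * e * x⁻¹ ∈ EG) : x ∈ MG := by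
  obtain ⟨j, hj, a, ha, b, hb, rfl⟩ := union_eq x
  by_cases hj0 : j = 0
  · subst hj0
    rw [gG_zero, mul_one]
    exact mul_mem ha hb
  exfalso
  have h6 : gl 6 ∈ EG := by
    rw [show (6 : ℕ) = 6 + 0 from rfl, edef (by norm_num)]
    exact ⟨_, rfl⟩
  have hg : gG j * gl 6 * (gG j)⁻¹ ∈ EG := by
    have := conj_EG (inv_mem ha) (h _ (conj_EG (inv_mem hb) h6))
    convert this using 1
    group
  obtain ⟨u, hu⟩ := hg
  obtain ⟨w, hw⟩ := h6
  have hc : gG j * gl 6 * (gG j)⁻¹ * gl 6 = gl 6 * (gG j * gl 6 * (gG j)⁻¹) := by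
    rw [hu, hw, eG_mul, eG_mul, Nat.xor_comm]
  have hp := congrArg piG hc
  have hk := List.all_eq_true.1 rep_checks j (List.mem_range.2 hj)
  simp only [Bool.and_eq_true, Bool.or_eq_true, Bool.not_eq_true'] at hk
  obtain ⟨hl, hk | ⟨hk, -⟩⟩ := hk
  · exact hj0 (Nat.eq_of_beq_eq_true hk)
  simp only [map_mul, map_inv, piG_gG hj, piG_gl (show (6 : ℕ) < 17 by norm_num),
    ← wp_winv hl, ← wp_single, ← wp_append, List.append_assoc] at hp
  have hs : J4Real.seedVec < 2 ^ 112 := by decide +kernel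
  have hlo : ∀ L : List ℕ, low L = true → ∀ g ∈ L, g < 20 := fun L hL => low_lt hL
  have e := congrArg (fun p : Equiv.Perm J4Real.Vec => (p ⟨J4Real.seedVec, hs⟩).1) hp
  have m1 : ∀ g ∈ gWords.getD j [] ++ ([6] ++ (winv (gWords.getD j []) ++ [6])), g < 20 := by
    simp only [List.mem_append, List.mem_singleton]
    rintro g (h' | rfl | h' | rfl)
    exacts [hlo _ hl g h', by norm_num, hlo _ (winv_low hl) g h', by norm_num]
  have m2 : ∀ g ∈ [6] ++ (gWords.getD j [] ++ ([6] ++ winv (gWords.getD j []))), g < 20 := by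
    simp only [List.mem_append, List.mem_singleton]
    rintro g (rfl | h' | rfl | h')
    exacts [by norm_num, hlo _ hl g h', by norm_num, hlo _ (winv_low hl) g h']
  simp only [wp_apply _ m1, wp_apply _ m2] at e
  rw [e, Nat.beq_refl] at hk
  exact Bool.noConfusion hk

theorem piG_MG_fix {x : PG} (hx : x ∈ MG) : piG x (vecAt 0) = vecAt 0 :=
  J4Real.M_fix_v0 (piG_MG hx)

/-- The stabilizer of the fixed vector. -/
theorem mem_MG_of_fix {x : PG} (h : piG x (vecAt 0) = vecAt 0) : x ∈ MG := by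
  obtain ⟨j, hj, a, ha, b, hb, rfl⟩ := union_eq x
  by_cases hj0 : j = 0
  · subst hj0
    rw [gG_zero, mul_one]
    exact mul_mem ha hb
  exfalso
  rw [map_mul, map_mul, Equiv.Perm.mul_apply, Equiv.Perm.mul_apply, piG_MG_fix hb] at h
  have h' : piG (gG j) (vecAt 0) = vecAt 0 := by
    refine (piG a).injective ?_
    rw [h, piG_MG_fix ha]
  have hk := List.all_eq_true.1 rep_checks j (List.mem_range.2 hj)
  simp only [Bool.and_eq_true, Bool.or_eq_true, Bool.not_eq_true'] at hk
  obtain ⟨hl, hk | ⟨-, hk⟩⟩ := hk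
  · exact hj0 (Nat.eq_of_beq_eq_true hk)
  have e := congrArg Subtype.val h'
  rw [piG_gG hj, wp_apply _ (low_lt hl), vecAt_val (by norm_num)] at e
  rw [e, Nat.beq_refl] at hk
  exact Bool.noConfusion hk

/-- The orbit of the vector under the centralizer of the involution. -/
theorem cent_vec {c : Equiv.Perm J4Real.Vec} (hc : c ∈ J4Real.Cz) :
    ∃ i < 77, c (vecAt 0) = vecAt i := by
  rw [← J4Real.Cz_eq] at hc
  have hm : c ∈ Submonoid.closure {x | ∃ g < 14, J4Real.cEl g = x} := by
    rw [← Subgroup.closure_toSubmonoid_of_finite, Subgroup.mem_toSubmonoid]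
    exact hc
  clear hc
  suffices ∀ k < 77, ∃ i < 77, c (vecAt k) = vecAt i from this 0 (by norm_num)
  induction hm using Submonoid.closure_induction with
  | mem x hx =>
    obtain ⟨g, hg, rfl⟩ := hx
    exact fun k hk => ⟨_, J4Real.centImg_lt hg hk, J4Real.gen_vec hg hk⟩
  | one => exact fun k hk => ⟨k, hk, rfl⟩
  | mul x y _ _ hx hy =>
    intro k hk
    obtain ⟨i, hi, e⟩ := hy k hk
    obtain ⟨l, hl, e'⟩ := hx i hi
    exact ⟨l, hl, by rw [Equiv.Perm.mul_apply, e, e']⟩

end Cfsg.Lib.J4Aut
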