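import Cfsg.Agent.Lib.J4Aut.EUnique
import Cfsg.Agent.Lib.J4Mult.Lifts
import Cfsg.Agent.Lib.Concrete.MathieuOut

/-!
# An automorphism adjusted on `2^11:M24`
-/

set_option autoImplicit false
set_option maxRecDepth 20000

namespace Cfsg.Lib.J4Aut

open Cfsg.Lib.J4Iso
open Cfsg.Lib.J4Pres (TwoGroup twoGen)
open Cfsg.Lib.J4Real (kPts)
open Cfsg.Lib.J4Mult (comb relWords relWords_el)
open Cfsg.Lib.Concrete (Rep)

/-- The image of a mask under a word in the four letters. -/
noncomputable def actW (w : List ℕ) (u : ℕ) : ℕ := w.foldr (fun g u => maskImg (tP g) u) u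

/-- The mask attached to a word by the value at the first letter. -/
noncomputable def runD : List ℕ → ℕ → ℕ
  | [], _ => 0
  | g :: w, d => cond (Nat.blt g 2) d 0 ^^^ maskImg (tP g) (runD w d)

/-- The masks fixed by the second generator. -/
def cyList : List ℕ :=
  [0, 29, 38, 59, 136, 149, 174, 179, 268, 273, 298, 311, 388, 409, 418, 447, 1604, 1625, 1634,
    1663, 1740, 1745, 1770, 1783, 1864, 1877, 1902, 1907, 1984, 2013, 2022, 2043]

/-- Words fixing a mask. -/
def stabW : List (List ℕ) := [[0], [3, 0, 2]]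

/-- Words from the mask to a basis. -/
def basisW : List (List ℕ × ℕ) :=
  [([], 494), ([2], 890), ([3], 1112), ([0, 3], 1379), ([2, 0, 3], 1627), ([3, 0, 3], 1370),
    ([0, 2, 0, 3], 86), ([0, 3, 0, 3], 1838), ([2, 0, 2, 0, 3], 1157), ([3, 0, 2, 0, 3], 650),
    ([0, 2, 0, 2, 0, 3], 903)]

/-- The combinations of the basis giving the bits. -/
def basisC : List ℕ := [1522, 848, 399, 265, 469, 1286, 842, 1775, 884, 1718, 914]

theorem fixed_ok : (stabW.all fun s => Nat.beq (actW s 494 % 2048) 494) = true ∧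
    ((List.range 2048).all fun v => !(stabW.all fun s => Nat.beq (actW s v % 2048) v) ||
      Nat.beq v 0 || Nat.beq v 494) = true ∧
    (basisW.all fun e => Nat.beq (actW e.1 494 % 2048) e.2) = true ∧
    ((List.range 11).all fun i =>
      Nat.beq (comb (basisW.map Prod.snd) (basisC.getD i 0)) (2 ^ i)) = true :=
  ⟨by decide +kernel, by decide +kernel, by decide +kernel, by decide +kernel⟩

theorem cy_ok : (cyList.all fun e => Nat.beq (maskImg (tP 2) e % 2048) e) = true := by decide +kernel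

theorem twist_ok : ((List.range 2048).all fun d =>
    !(Nat.beq ((d ^^^ maskImg (tP 0) d) % 2048) 0) ||
    !(relWords.all fun w => Nat.beq (runD w d % 2048) 0) ||
    cyList.any fun e => Nat.beq ((d ^^^ e ^^^ maskImg (tP 0) e) % 2048) 0 ||
      Nat.beq ((d ^^^ e ^^^ maskImg (tP 0) e) % 2048) 660) = true := by decide +kernel

theorem kG_eG_word : ∀ (w : List ℕ) (u : ℕ),
    kG (w.map el).prod * eG u = eG (actW w u) * kG (w.map el).prod
  | [], u => by simp [actW]
  | g :: w, u => by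
    rw [List.map_cons, List.prod_cons, map_mul, mul_assoc, kG_eG_word w u, ← mul_assoc,
      eG_conj (el g) (tP g) _ (el_rep g), mul_assoc]
    rfl

theorem eG_mem_of_bits {H : Subgroup PG} (h : ∀ i < 11, eG (2 ^ i) ∈ H) (v : ℕ) : eG v ∈ H := by
  have key : ∀ n ≤ 11, eGn n v ∈ H := by
    intro n
    induction n with
    | zero => intro _; exact one_mem _
    | succ n ih =>
      intro hn
      rw [eGn]
      refine mul_mem (ih (by omega)) ?_
      cases v.testBit n
      · exact one_mem _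
      · rw [cond_true, ← eG_two_pow (by omega)]
        exact h n (by omega)
  exact key 11 le_rfl

/-- After an inner automorphism the normal subgroup and `2^11:M24` are kept. -/
theorem exists_keep (φ : MulAut PG) : ∃ g : PG,
    (∀ v, (MulAut.conj g * φ) (eG v) ∈ EG) ∧ (∀ x ∈ MG, (MulAut.conj g * φ) x ∈ MG) ∧
    (∀ e ∈ EG, ∃ v, e = (MulAut.conj g * φ) (eG v)) := by
  obtain ⟨g, hg⟩ := exists_conj_P2 φ
  refine ⟨g, ?_⟩
  set ψ := MulAut.conj g * φ
  have hF : EG.map ψ.toMonoidHom = EG := by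
    refine eq_EG ?_ ?_ ?_ ?_
    · rw [← hg]; exact Subgroup.map_mono EG_le_P2
    · rw [← card_EG]
      exact (Nat.card_congr (EG.equivMapOfInjective ψ.toMonoidHom ψ.injective).toEquiv).symm
    · rintro _ ⟨x, ⟨v, rfl⟩, rfl⟩
      rw [← map_mul, eG_mul, Nat.xor_self, eG_zero, map_one]
    · intro s hs x hx
      rw [← hg] at hs
      obtain ⟨s, hs, rfl⟩ := hs
      obtain ⟨e, he, rfl⟩ := hx
      exact ⟨s * e * s⁻¹, conj_EG (P2_le hs) he, by simp⟩
  have h1 : ∀ e ∈ EG, ∃ v, e = ψ (eG v) := fun e he => by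
    rw [← hF] at he
    obtain ⟨_, ⟨v, rfl⟩, rfl⟩ := he
    exact ⟨v, rfl⟩
  refine ⟨fun v => hF ▸ Subgroup.mem_map_of_mem _ ⟨v, rfl⟩, fun x hx => ?_, h1⟩
  refine mem_MG_of_normalizes fun e he => ?_
  obtain ⟨v, rfl⟩ := h1 e he
  rw [← map_inv, ← map_mul, ← map_mul, ← hF]
  exact Subgroup.mem_map_of_mem _ (conj_EG hx ⟨v, rfl⟩)

theorem out_two : ∀ θ : MulAut TwoGroup, ∃ b, θ = MulAut.conj b := by
  intro θ
  obtain ⟨e⟩ := J4Pres.twoGroup_iso
  have h1 : Nat.card (Cfsg.Out TwoGroup) = 1 :=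
    (Concrete.card_out_congr e).trans Concrete.card_out_M24
  have hs := (Nat.card_eq_one_iff_unique.1 h1).1
  obtain ⟨b, hb⟩ := (QuotientGroup.eq_one_iff θ).1 (hs.elim (θ : Cfsg.Out TwoGroup) 1)
  exact ⟨b, hb.symm⟩

/-- After an inner automorphism the complement is kept modulo the normal subgroup, and the normal
subgroup is fixed. -/
theorem exists_fix_E (φ : MulAut PG) : ∃ g : PG, (∀ v, (MulAut.conj g * φ) (eG v) = eG v) ∧
    ∀ a, ∃ d, (MulAut.conj g * φ) (kG a) = eG d * kG a := by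
  obtain ⟨g, hE, hM, hsurj⟩ := exists_keep φ
  set ψ := MulAut.conj g * φ with hψ
  let f : TwoGroup →* MG := (ψ.toMonoidHom.comp kG).codRestrict MG fun a => hM _ (kG_mem_MG a)
  let θ : TwoGroup →* TwoGroup := proj.comp f
  have hinj : Function.Injective θ := (injective_iff_map_eq_one θ).2 fun a ha => by
    obtain ⟨v, b, hvb⟩ := hM _ (kG_mem_MG a)
    have e : f a = ⟨eG v * kG b, v, b, rfl⟩ := Subtype.ext hvb
    have hb : b = 1 := by
      rw [← ha]
      exact ((congrArg proj e).trans (proj_eq v b _)).symm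
    rw [hb, map_one, mul_one] at hvb
    obtain ⟨w, hw⟩ := hsurj _ ⟨v, rfl⟩
    have h := ψ.injective (hvb.trans hw)
    exact ((unique_pair (v := w) (w := 0) (a := 1) (b := a)
      (by rw [map_one, mul_one, eG_zero, one_mul, h])).2).symm
  let Θ : MulAut TwoGroup := MulEquiv.ofBijective θ ⟨hinj, Finite.injective_iff_surjective.1 hinj⟩
  obtain ⟨b, hb⟩ := out_two Θ
  refine ⟨(kG b)⁻¹ * g, ?_⟩
  set χ := MulAut.conj ((kG b)⁻¹ * g) * φ
  have hχ : ∀ x, χ x = (kG b)⁻¹ * ψ x * kG b := fun x => by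
    simp [χ, hψ, mul_assoc]
  have hK : ∀ a, ∃ d, χ (kG a) = eG d * kG a := by
    intro a
    obtain ⟨v, c, hvc⟩ := hM _ (kG_mem_MG a)
    have e : f a = ⟨eG v * kG c, v, c, rfl⟩ := Subtype.ext hvc
    have hθ : θ a = c := (congrArg proj e).trans (proj_eq v c _)
    have hca : c = b * a * b⁻¹ := by
      rw [← hθ, show θ a = Θ a from rfl, hb, MulAut.conj_apply]
    obtain ⟨p, hp⟩ : ∃ p, Rep (kPts b⁻¹) p := ⟨_, (MG.exists_pack b⁻¹).choose_spec⟩
    refine ⟨maskImg p v, ?_⟩
    rw [hχ, hvc, hca, ← map_inv, ← mul_assoc, eG_conj b⁻¹ p v hp, mul_assoc, mul_assoc, ← map_mul,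
      ← map_mul]
    congr 2
    group
  refine ⟨?_, hK⟩
  have hT : ∀ v, ∃ w, χ (eG v) = eG w := fun v => by
    obtain ⟨w, hw⟩ := hE v
    obtain ⟨p, hp⟩ : ∃ p, Rep (kPts b⁻¹) p := ⟨_, (MG.exists_pack b⁻¹).choose_spec⟩
    exact ⟨maskImg p w, by rw [hχ, hw, ← map_inv, eG_conj b⁻¹ p w hp, mul_assoc, map_inv,
      inv_mul_cancel, mul_one]⟩
  have hstep : ∀ (s : List ℕ) (v w : ℕ), χ (eG v) = eG w → χ (eG (actW s v)) = eG (actW s w) := by
    intro s v w h
    obtain ⟨d, hd⟩ := hK (s.map el).prod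
    have e := congrArg χ (kG_eG_word s v)
    rw [map_mul, map_mul, h, hd, mul_assoc, kG_eG_word s w, ← mul_assoc, ← mul_assoc] at e
    obtain ⟨u, hu⟩ := hT (actW s v)
    rw [hu] at e
    have e' := mul_right_cancel e
    rw [eG_mul d, Nat.xor_comm d, ← eG_mul] at e'
    rw [hu, mul_right_cancel e']
  obtain ⟨w, hw⟩ := hT 494
  obtain ⟨f1, f2, f3, f4⟩ := fixed_ok
  have hw0 : w % 2048 ≠ 0 := fun h0 => by
    rw [← eG_mod w, h0, eG_zero] at hw
    have := χ.injective (hw.trans (map_one χ).symm)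
    rw [← eG_zero] at this
    exact absurd (eG_inj this) (by norm_num)
  have hw494 : eG w = eG 494 := by
    have hfix : ∀ s ∈ stabW, actW s (w % 2048) % 2048 = w % 2048 := by
      intro s hs
      have h1 := hstep s 494 (w % 2048) (by rw [eG_mod, hw])
      rw [← eG_mod (actW s 494), Nat.eq_of_beq_eq_true (List.all_eq_true.1 f1 s hs), hw,
        ← eG_mod w] at h1
      have := eG_inj h1
      rw [Nat.mod_mod] at this
      exact this.symm
    have h2 := List.all_eq_true.1 f2 (w % 2048) (List.mem_range.2 (Nat.mod_lt _ (by norm_num)))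
    simp only [Bool.or_eq_true, Bool.not_eq_true'] at h2
    rcases h2 with (h2 | h2) | h2
    · have : (stabW.all fun s => Nat.beq (actW s (w % 2048) % 2048) (w % 2048)) = true := by
        rw [List.all_eq_true]
        intro s hs
        rw [hfix s hs, Nat.beq_refl]
      rw [this] at h2
      exact Bool.noConfusion h2
    · exact absurd (Nat.eq_of_beq_eq_true h2) hw0
    · rw [← eG_mod w, Nat.eq_of_beq_eq_true h2]
  rw [hw494] at hw
  let L : Subgroup PG := MonoidHom.eqLocus χ.toMonoidHom (MonoidHom.id PG)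
  have hb' : ∀ e ∈ basisW.map Prod.snd, eG e ∈ L := by
    intro e he
    obtain ⟨q, hq, rfl⟩ := List.mem_map.1 he
    show χ (eG q.2) = eG q.2
    have h := hstep q.1 494 494 hw
    rw [← eG_mod (actW q.1 494), Nat.eq_of_beq_eq_true (List.all_eq_true.1 f3 q hq)] at h
    exact h
  intro v
  refine eG_mem_of_bits (H := L) (fun i hi => ?_) v
  rw [← Nat.eq_of_beq_eq_true (List.all_eq_true.1 f4 i (List.mem_range.2 hi))]
  generalize basisC.getD i 0 = c
  revert hb' c
  generalize basisW.map Prod.snd = E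
  intro hb'
  induction E with
  | nil => intro c; rw [comb, eG_zero]; exact one_mem _
  | cons e E ih =>
    intro c
    rw [comb, ← eG_mul]
    refine mul_mem ?_ (ih (fun x hx => hb' x (List.mem_cons_of_mem _ hx)) _)
    cases c.testBit 0
    · rw [cond_false, eG_zero]; exact one_mem _
    · exact hb' e (by simp)

/-- After an inner automorphism the normal subgroup and the second generator are fixed and the first
generator is moved by one of two masks. -/
theorem exists_normal_form (φ : MulAut PG) : ∃ g : PG, ∃ d,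
    (∀ v, (MulAut.conj g * φ) (eG v) = eG v) ∧
    (MulAut.conj g * φ) (kG (el 2)) = kG (el 2) ∧
    (MulAut.conj g * φ) (kG (el 0)) = eG d * kG (el 0) ∧ (d = 0 ∨ d = 660) := by
  obtain ⟨g, hE, hK⟩ := exists_fix_E φ
  set χ := MulAut.conj g * φ with hχ
  obtain ⟨d, hd⟩ := hK (el 2)
  have hrel : ∀ g' : ℕ, ∀ v, kG (el g') * eG v = eG (maskImg (tP g') v) * kG (el g') := fun g' v =>
    eG_conj (el g') (tP g') v (el_rep g')
  -- kill the value at the second generator
  set e1 := maskImg (tP 2) d with he1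
  have hy3 : el 2 * el 2 * el 2 = 1 := by
    rw [el_first.2.2.1]
    have h := J4Pres.twoGen_rels [1, 1, 1] (by decide)
    simpa [mul_assoc] using h
  have h0 : eG (d ^^^ e1 ^^^ maskImg (tP 2) e1) = 1 := by
    have h := congrArg χ (congrArg kG hy3)
    rw [map_mul, map_mul, map_mul, map_mul, hd, map_one, map_one] at h
    have hk : kG (el 2) * (kG (el 2) * kG (el 2)) = 1 := by
      rw [← map_mul, ← map_mul, ← mul_assoc, hy3, map_one]
    rw [← h, ← eG_mul, ← eG_mul]
    calc eG d * eG e1 * eG (maskImg (tP 2) e1)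
        = eG d * eG e1 * eG (maskImg (tP 2) e1) * (kG (el 2) * (kG (el 2) * kG (el 2))) := by
          rw [hk, mul_one]
      _ = eG d * eG e1 * (eG (maskImg (tP 2) e1) * kG (el 2)) * kG (el 2) * kG (el 2) := by
          simp only [mul_assoc]
      _ = eG d * (eG e1 * kG (el 2)) * eG e1 * kG (el 2) * kG (el 2) := by
          rw [← hrel 2 e1]; simp only [mul_assoc]
      _ = eG d * kG (el 2) * eG d * (eG e1 * kG (el 2)) * kG (el 2) := by
          conv_lhs => rw [show eG e1 * kG (el 2) = kG (el 2) * eG d from (hrel 2 d).symm]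
          simp only [mul_assoc]
      _ = eG d * kG (el 2) * (eG d * kG (el 2)) * (eG d * kG (el 2)) := by
          rw [show eG e1 * kG (el 2) = kG (el 2) * eG d from (hrel 2 d).symm]; simp only [mul_assoc]
  obtain ⟨d1, hd1⟩ := hK (el 0)
  set χ1 := MulAut.conj (eG e1 * g) * φ with hχ1
  have h1 : ∀ x, χ1 x = eG e1 * χ x * eG e1 := fun x => by
    simp [hχ1, hχ, mul_assoc, eG_inv]
  have hE1 : ∀ v, χ1 (eG v) = eG v := fun v => by
    rw [h1, hE, eG_mul, eG_mul, Nat.xor_comm e1, Nat.xor_assoc, Nat.xor_self, Nat.xor_zero]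
  have hy1 : χ1 (kG (el 2)) = kG (el 2) := by
    rw [h1, hd, mul_assoc, mul_assoc, hrel, ← mul_assoc, ← mul_assoc, eG_mul, eG_mul,
      Nat.xor_comm e1 d, h0, one_mul]
  have hx1 : χ1 (kG (el 0)) = eG (e1 ^^^ d1 ^^^ maskImg (tP 0) e1) * kG (el 0) := by
    rw [h1, hd1, mul_assoc, mul_assoc, hrel, ← mul_assoc, ← mul_assoc, eG_mul, eG_mul]
  set d2 := (e1 ^^^ d1 ^^^ maskImg (tP 0) e1) % 2048 with hd2
  rw [← eG_mod, ← hd2] at hx1
  -- the relators
  have hx10 : el 1 = el 0 := by
    have h := relWords_el [0, 0] (by decide +kernel)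
    have h' := relWords_el [0, 1] (by decide +kernel)
    simp only [List.map_cons, List.map_nil, List.prod_cons, List.prod_nil, mul_one] at h h'
    exact mul_left_cancel (h'.trans h.symm)
  have hy3' : χ1 (kG (el 3)) = kG (el 3) := by
    rw [show (3 : ℕ) = Nat.xor 2 1 from rfl, el_xor, map_inv, map_inv, hy1]
  have hrun : ∀ w : List ℕ, (∀ g ∈ w, g < 4) →
      χ1 (kG (w.map el).prod) = eG (runD w d2) * kG (w.map el).prod := by
    intro w
    induction w with
    | nil => intro _; simp [runD, eG_zero]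
    | cons a w ih =>
      intro hw
      have ha := hw a (by simp)
      rw [List.map_cons, List.prod_cons, map_mul, map_mul, ih fun c hc => hw c (List.mem_cons_of_mem _ hc),
        runD, ← eG_mul]
      have hgen : χ1 (kG (el a)) = eG (cond (Nat.blt a 2) d2 0) * kG (el a) := by
        interval_cases a
        · exact hx1
        · rw [hx10]; exact hx1
        · rw [hy1, show Nat.blt 2 2 = false from rfl, cond_false, eG_zero, one_mul]
        · rw [hy3', show Nat.blt 3 2 = false from rfl, cond_false, eG_zero, one_mul]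
      rw [hgen, mul_assoc, ← mul_assoc (kG (el a)), hrel]
      simp [mul_assoc]
  have hall : (relWords.all fun w => Nat.beq (runD w d2 % 2048) 0) = true := by
    rw [List.all_eq_true]
    intro w hw
    have hlt : ∀ g ∈ w, g < 4 := fun g hg => by
      simpa [Nat.blt_eq] using List.all_eq_true.1 (List.all_eq_true.1 J4Mult.rels_lt w hw) g hg
    have h := hrun w hlt
    rw [relWords_el w hw, map_one, map_one, mul_one, ← eG_zero] at h
    rw [← eG_inj h]
    rfl
  have hsq : Nat.beq ((d2 ^^^ maskImg (tP 0) d2) % 2048) 0 = true := by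
    have h := hrun [0, 0] (by simp)
    rw [relWords_el [0, 0] (by decide +kernel), map_one, map_one, mul_one, ← eG_zero] at h
    have e : runD [0, 0] d2 = d2 ^^^ maskImg (tP 0) d2 := by
      simp [runD, maskImg_zero, show Nat.blt 0 2 = true from rfl]
    rw [e] at h
    rw [← eG_inj h]
    rfl
  have hk := List.all_eq_true.1 twist_ok d2 (List.mem_range.2 (Nat.mod_lt _ (by norm_num)))
  rw [hall, hsq] at hk
  simp only [Bool.not_true, Bool.false_or, List.any_eq_true, Bool.or_eq_true] at hk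
  obtain ⟨e2, he2, hk⟩ := hk
  have hey : eG (maskImg (tP 2) e2) = eG e2 := by
    rw [← eG_mod (maskImg (tP 2) e2), Nat.eq_of_beq_eq_true (List.all_eq_true.1 cy_ok e2 he2)]
  set χ2 := MulAut.conj (eG e2 * (eG e1 * g)) * φ with hχ2
  have h2 : ∀ x, χ2 x = eG e2 * χ1 x * eG e2 := fun x => by
    simp [hχ2, hχ1, mul_assoc, eG_inv]
  refine ⟨eG e2 * (eG e1 * g), (d2 ^^^ e2 ^^^ maskImg (tP 0) e2) % 2048, fun v => ?_, ?_, ?_, ?_⟩
  · show χ2 (eG v) = _
    rw [h2, hE1, eG_mul, eG_mul, Nat.xor_comm e2, Nat.xor_assoc, Nat.xor_self, Nat.xor_zero]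
  · show χ2 (kG (el 2)) = _
    rw [h2, hy1, mul_assoc, hrel, hey, ← mul_assoc, eG_mul, Nat.xor_self, eG_zero, one_mul]
  · show χ2 (kG (el 0)) = _
    rw [h2, hx1, mul_assoc, mul_assoc, hrel, ← mul_assoc, ← mul_assoc, eG_mul, eG_mul, eG_mod,
      Nat.xor_comm e2 d2]
  · rcases hk with hk | hk
    · exact Or.inl (Nat.eq_of_beq_eq_true hk)
    · exact Or.inr (Nat.eq_of_beq_eq_true hk)

end Cfsg.Lib.J4Aut
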