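import Cfsg.Agent.Lib.J4Aut.Normalizer
import Cfsg.Agent.Lib.J4Aut.DataSyl
import Mathlib.GroupTheory.PGroup
import Mathlib.GroupTheory.Sylow

/-!
# A Sylow 2-subgroup of the complement and its elementary abelian normal subgroups
-/

set_option autoImplicit false
set_option maxRecDepth 20000

namespace Cfsg.Lib.J4Aut

open Cfsg.Lib.J4Iso (getN comp idP rep_comp rep_idP maskImg eG kG eG_conj kPts_ext)
open Cfsg.Lib.J4Pres (TwoGroup twoGen gPerm letterPerms)
open Cfsg.Lib.J4Real (kPts kPts_spec rep_letter)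
open Cfsg.Lib.Concrete (Rep)
open Cfsg (GolayPt)

/-- An element of the list. -/
noncomputable def sEl (i : ℕ) : ℕ := getN (getN sylElts [] (i / 32)) 0 (i % 32)

/-- The product of an element with a generator. -/
noncomputable def sNxt (i k : ℕ) : ℕ := getN (getN (getN sylNext [] (i / 32)) [] (i % 32)) 0 k

/-- A generator. -/
noncomputable def sGen (k : ℕ) : ℕ := sEl (sNxt 0 k)

/-- The inverse of a generator. -/
noncomputable def sGinv (k : ℕ) : ℕ := getN sylGinv 0 k

/-- The parent of an element and a generator. -/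
noncomputable def sPar (i : ℕ) : ℕ × ℕ := getN (getN sylTree [] (i / 32)) (0, 0) (i % 32)

/-- The place of an element in the order by size and back. -/
noncomputable def sOrd (i : ℕ) : ℕ × ℕ := getN (getN sylSort [] (i / 32)) (0, 0) (i % 32)

/-- The packed permutation of a word. -/
noncomputable def wPerm (w : List ℕ) : ℕ :=
  w.foldr (fun g p => comp (letterPerms.getD g 0) p) idP

theorem gens_ok : ((List.range 7).all fun k =>
    ((sylWords.getD k []).all fun g => Nat.blt g 4) &&
    Nat.beq (wPerm (sylWords.getD k [])) (sGen k) && Nat.beq (comp (sGen k) (sGinv k)) idP) = true := by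
  decide +kernel

theorem tree_ok : ((List.range 1024).all fun i => cond (Nat.beq i 0) (Nat.beq (sEl i) idP)
    (Nat.blt (sPar i).1 i && Nat.blt (sPar i).2 7 &&
      Nat.beq (comp (sEl (sPar i).1) (sGen (sPar i).2)) (sEl i))) = true := by decide +kernel

theorem next_ok : ((List.range 1024).all fun i => (List.range 7).all fun k =>
    Nat.blt (sNxt i k) 1024 && Nat.beq (comp (sEl i) (sGen k)) (sEl (sNxt i k))) = true := by
  decide +kernel

theorem order_ok : ((List.range 1023).all fun r =>
    Nat.blt (sEl (sOrd r).1) (sEl (sOrd (r + 1)).1)) = true ∧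
    ((List.range 1024).all fun i => Nat.blt (sOrd i).2 1024 && Nat.beq (sOrd (sOrd i).2).1 i) = true :=
  ⟨by decide +kernel, by decide +kernel⟩

theorem rep_word : ∀ w : List ℕ, (∀ g ∈ w, g < 4) → Rep (kPts (w.map twoGen).prod) (wPerm w)
  | [], _ => by simpa [wPerm] using rep_idP
  | g :: w, h => by
    rw [List.map_cons, List.prod_cons, map_mul, (kPts_spec.2 g (h g (by simp))).2]
    exact rep_comp (rep_letter (h g (by simp))) (rep_word w fun a ha => h a (List.mem_cons_of_mem _ ha))

/-- A generator as an element. -/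
noncomputable def sylGen (k : ℕ) : TwoGroup := ((sylWords.getD k []).map twoGen).prod

theorem sylGen_rep {k : ℕ} (hk : k < 7) : Rep (kPts (sylGen k)) (sGen k) := by
  have h := List.all_eq_true.1 gens_ok k (List.mem_range.2 hk)
  simp only [Bool.and_eq_true, List.all_eq_true, Nat.blt_eq] at h
  rw [← Nat.eq_of_beq_eq_true h.1.2]
  exact rep_word _ h.1.1

theorem sylGen_inv {k : ℕ} (hk : k < 7) : Rep (kPts (sylGen k)⁻¹) (sGinv k) := by
  have h := List.all_eq_true.1 gens_ok k (List.mem_range.2 hk)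
  simp only [Bool.and_eq_true] at h
  intro x
  have h1 := sylGen_rep hk (kPts (sylGen k)⁻¹ x)
  rw [map_inv, Equiv.Perm.inv_def, Equiv.apply_symm_apply] at h1
  have hid := rep_idP x
  rw [← Nat.eq_of_beq_eq_true h.2, J4Iso.pget_comp _ _ (Concrete.gidx x).isLt, Equiv.Perm.one_apply] at hid
  rw [map_inv, Equiv.Perm.inv_def]
  have hlt : Concrete.pget (sGinv k) (Concrete.gidx x).val < 24 := ginv_lt k hk _ (Concrete.gidx x).isLt
  have hperm := (sylGen_rep hk).apply ⟨_, hlt⟩
  have heq : kPts (sylGen k) (Concrete.gpt ⟨_, hlt⟩) = x :=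
    Concrete.gidx_injective (Fin.ext (hperm.trans hid.symm))
  rw [← heq, Equiv.symm_apply_apply, Concrete.gidx_gpt, heq]
where
  ginv_ok : ((List.range 7).all fun k => Concrete.bits24.all fun i =>
      Nat.blt (Concrete.pget (sGinv k) i) 24) = true := by decide +kernel
  ginv_lt (k : ℕ) (hk : k < 7) (i : ℕ) (hi : i < 24) : Concrete.pget (sGinv k) i < 24 := by
    have h := List.all_eq_true.1 (List.all_eq_true.1 ginv_ok k (List.mem_range.2 hk)) i
      (Concrete.mem_bits24.2 hi)
    exact Nat.blt_eq.mp h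

/-- The Sylow 2-subgroup. -/
noncomputable def S24 : Subgroup TwoGroup := Subgroup.closure {x | ∃ k < 7, sylGen k = x}

theorem sylGen_mem {k : ℕ} (hk : k < 7) : sylGen k ∈ S24 := Subgroup.subset_closure ⟨k, hk, rfl⟩

theorem S24_elt {a : TwoGroup} (ha : a ∈ S24) : ∃ i < 1024, Rep (kPts a) (sEl i) := by
  have hm : a ∈ Submonoid.closure {x | ∃ k < 7, sylGen k = x} := by
    rw [← Subgroup.closure_toSubmonoid_of_finite, Subgroup.mem_toSubmonoid]
    exact ha
  clear ha
  induction hm using Submonoid.closure_induction_right with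
  | one =>
    refine ⟨0, by norm_num, ?_⟩
    have h := List.all_eq_true.1 tree_ok 0 (List.mem_range.2 (by norm_num))
    simp only [Nat.beq_refl, cond_true] at h
    rw [Nat.eq_of_beq_eq_true h, map_one]
    exact rep_idP
  | mul_right x hx y hy ih =>
    obtain ⟨k, hk, rfl⟩ := hy
    obtain ⟨i, hi, hr⟩ := ih
    have h := List.all_eq_true.1 (List.all_eq_true.1 next_ok i (List.mem_range.2 hi)) k
      (List.mem_range.2 hk)
    simp only [Bool.and_eq_true, Nat.blt_eq] at h
    refine ⟨_, h.1, ?_⟩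
    rw [map_mul, ← Nat.eq_of_beq_eq_true h.2]
    exact rep_comp hr (sylGen_rep hk)

theorem S24_reach : ∀ i < 1024, ∃ a ∈ S24, Rep (kPts a) (sEl i) := by
  intro i
  induction i using Nat.strong_induction_on with
  | _ i ih =>
    intro hi
    have h := List.all_eq_true.1 tree_ok i (List.mem_range.2 hi)
    by_cases h0 : i = 0
    · subst h0
      simp only [Nat.beq_refl, cond_true] at h
      exact ⟨1, one_mem _, by rw [Nat.eq_of_beq_eq_true h, map_one]; exact rep_idP⟩
    rw [show Nat.beq i 0 = false by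
      cases hb : Nat.beq i 0
      · rfl
      · exact absurd (Nat.eq_of_beq_eq_true hb) h0, cond_false] at h
    simp only [Bool.and_eq_true, Nat.blt_eq] at h
    obtain ⟨a, ha, hr⟩ := ih _ h.1.1 (h.1.1.trans hi)
    refine ⟨a * sylGen (sPar i).2, mul_mem ha (sylGen_mem h.1.2), ?_⟩
    rw [map_mul, ← Nat.eq_of_beq_eq_true h.2]
    exact rep_comp hr (sylGen_rep h.1.2)

theorem sEl_inj {i j : ℕ} (hi : i < 1024) (hj : j < 1024) (h : sEl i = sEl j) : i = j := by
  have hord : ∀ k < 1024, (sOrd k).2 < 1024 ∧ (sOrd (sOrd k).2).1 = k := fun k hk => by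
    have := List.all_eq_true.1 order_ok.2 k (List.mem_range.2 hk)
    simp only [Bool.and_eq_true, Nat.blt_eq] at this
    exact ⟨this.1, Nat.eq_of_beq_eq_true this.2⟩
  have hmono : ∀ b, b < 1024 → ∀ a < b, sEl (sOrd a).1 < sEl (sOrd b).1 := by
    intro b
    induction b with
    | zero => intro _ a ha; omega
    | succ b ih =>
      intro hb a ha
      have hs := Nat.blt_eq.mp (List.all_eq_true.1 order_ok.1 b (List.mem_range.2 (by omega)))
      rcases Nat.lt_or_ge a b with h' | h'
      · exact lt_trans (ih (by omega) a h') hs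
      · obtain rfl : a = b := by omega
        exact hs
  obtain ⟨h1, h2⟩ := hord i hi
  obtain ⟨h3, h4⟩ := hord j hj
  rw [← h2, ← h4] at h ⊢
  rcases Nat.lt_trichotomy (sOrd i).2 (sOrd j).2 with hlt | he | hlt
  · exact absurd h (hmono _ h3 _ hlt).ne
  · rw [he]
  · exact absurd h.symm (hmono _ h1 _ hlt).ne

theorem card_S24 : Nat.card S24 = 1024 := by
  choose A hA hR using fun i : Fin 1024 => S24_reach i i.2
  have hinj : Function.Bijective (fun i : Fin 1024 => (⟨A i, hA i⟩ : S24)) := by
    refine ⟨fun i j h => Fin.ext (sEl_inj i.2 j.2 ?_), fun a => ?_⟩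
    · have e : A i = A j := congrArg Subtype.val h
      have h1 := hR i
      rw [e] at h1
      exact pack_eq (sEl_norm i.2) (sEl_norm j.2) h1 (hR j)
    · obtain ⟨i, hi, hr⟩ := S24_elt a.2
      exact ⟨⟨i, hi⟩, Subtype.ext (kPts_ext (hR ⟨i, hi⟩) hr)⟩
  rw [← Nat.card_congr (Equiv.ofBijective _ hinj), Nat.card_fin]
where
  norm_ok : ((List.range 1024).all fun i => Nat.beq (comp (sEl i) idP) (sEl i)) = true := by
    decide +kernel
  sEl_norm {i : ℕ} (hi : i < 1024) : comp (sEl i) idP = sEl i :=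
    Nat.eq_of_beq_eq_true (List.all_eq_true.1 norm_ok i (List.mem_range.2 hi))
  pack_eq {g : Equiv.Perm GolayPt} {p q : ℕ} (hp : comp p idP = p) (hq : comp q idP = q)
      (h1 : Rep g p) (h2 : Rep g q) : p = q := by
    rw [← hp, ← hq, J4Iso.comp_eq, J4Iso.comp_eq]
    congr 1
    refine List.map_congr_left fun i hi => ?_
    rw [Concrete.mem_bits24] at hi
    have hid := rep_idP (Concrete.gpt ⟨i, hi⟩)
    rw [Equiv.Perm.one_apply, Concrete.gidx_gpt] at hid
    rw [← hid]
    exact J4Iso.rep_pget_eq h1 h2 hi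

/-- Membership in one of the normal subgroups. -/
def nMem (x i : ℕ) : Bool := (sylNormals.getD i []).any fun y => Nat.beq y x

theorem invs_ok : ((List.range 1024).all fun i => !(Nat.beq (comp (sEl i) (sEl i)) idP) ||
    Nat.beq (sEl i) idP || sylInvs.any fun y => Nat.beq y (sEl i)) = true := by decide +kernel

/-- A step between the normal subgroups. -/
noncomputable def stepOK (i p : ℕ) : Bool :=
  nMem p i ||
  ((List.range 7).any fun k =>
    J4Iso.getN [comp p (comp (comp (sGen k) p) (sGinv k))] 0 0 |> fun x => !(nMem x i)) ||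
  ((sylNormals.getD i []).any fun x => !(Nat.beq (comp x p) (comp p x))) ||
  ((List.range 23).any fun j => nMem p j && ((sylNormals.getD i []).all fun x => nMem x j) &&
    (sylNormals.getD j []).all fun x => nMem x i || nMem (comp p x) i)

theorem steps_ok : ((List.range 23).all fun i => sylInvs.all fun p => stepOK i p) = true := by
  decide +kernel

theorem start_ok : Nat.beq ((sylNormals.getD 0 []).getD 0 0) idP = true ∧
    (sylNormals.getD 0 []).length = 1 ∧ sylNormals.length = 23 :=
  ⟨by decide +kernel, rfl, rfl⟩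

/-- The fixed masks of one of the normal subgroups. -/
noncomputable def fixList (i : ℕ) : List ℕ :=
  (List.range 2048).filter fun v =>
    (sylNormals.getD i []).all fun x => Nat.beq x idP || Nat.beq (maskImg x v % 2048) v

theorem fix_ok : ((List.range 23).all fun i => Nat.beq i 0 ||
    Nat.blt ((fixList i).length * (sylNormals.getD i []).length) 2048) = true := by decide +kernel

/-- The set of one of the lists. -/
def nSet (i : ℕ) : Set TwoGroup := {a | ∃ p ∈ sylNormals.getD i [], Rep (kPts a) p}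

theorem nSub_ok : ((List.range 23).all fun i => nMem idP i && (sylNormals.getD i []).all fun x =>
    ((sylNormals.getD i []).all fun y => nMem (comp x y) i) &&
    (List.range 7).all fun k => nMem (comp (comp (sGen k) x) (sGinv k)) i) = true := by
  decide +kernel

theorem nMem_set {i x : ℕ} {a : TwoGroup} (h : nMem x i = true) (ha : Rep (kPts a) x) : a ∈ nSet i := by
  simp only [nMem, List.any_eq_true] at h
  obtain ⟨y, hy, e⟩ := h
  exact ⟨y, hy, (Nat.eq_of_beq_eq_true e).symm ▸ ha⟩

/-- One of the lists as a subgroup. -/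
noncomputable def nSub (i : ℕ) (hi : i < 23) : Subgroup TwoGroup :=
  let M : Submonoid TwoGroup :=
    { carrier := nSet i
      one_mem' := by
        have h := List.all_eq_true.1 nSub_ok i (List.mem_range.2 hi)
        simp only [Bool.and_eq_true] at h
        exact nMem_set h.1 (by rw [map_one]; exact rep_idP)
      mul_mem' := by
        rintro a b ⟨x, hx, ha⟩ ⟨y, hy, hb⟩
        have h := List.all_eq_true.1 nSub_ok i (List.mem_range.2 hi)
        simp only [Bool.and_eq_true, List.all_eq_true] at h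
        exact nMem_set ((h.2 x hx).1 y hy) (by rw [map_mul]; exact rep_comp ha hb) }
  { M with
    inv_mem' := fun {x} hx => by
      obtain ⟨k, hk⟩ := (isOfFinOrder_of_finite x).mem_powers_iff_mem_zpowers.2
        (Subgroup.inv_mem _ (Subgroup.mem_zpowers x))
      show x⁻¹ ∈ M
      rw [← hk]
      exact pow_mem (show x ∈ M from hx) k }

theorem nSub_conj {i : ℕ} (hi : i < 23) {s a : TwoGroup} (hs : s ∈ S24) (ha : a ∈ nSet i) :
    s * a * s⁻¹ ∈ nSet i := by
  have hm : s ∈ Submonoid.closure {x | ∃ k < 7, sylGen k = x} := by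
    rw [← Subgroup.closure_toSubmonoid_of_finite, Subgroup.mem_toSubmonoid]
    exact hs
  clear hs
  induction hm using Submonoid.closure_induction generalizing a with
  | mem x hx =>
    obtain ⟨k, hk, rfl⟩ := hx
    obtain ⟨y, hy, hr⟩ := ha
    have h := List.all_eq_true.1 nSub_ok i (List.mem_range.2 hi)
    simp only [Bool.and_eq_true, List.all_eq_true] at h
    exact nMem_set ((h.2 y hy).2 k (List.mem_range.2 hk)) (by
      rw [map_mul, map_mul]; exact rep_comp (rep_comp (sylGen_rep hk) hr) (sylGen_inv hk))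
  | one => simpa using ha
  | mul x y _ _ hx hy => simpa [mul_assoc] using hx (hy ha)

/-- An elementary abelian normal subgroup of the Sylow subgroup is in the list. -/
theorem exists_normal {N : Subgroup TwoGroup} (hle : N ≤ S24) (hsq : ∀ a ∈ N, a * a = 1)
    (hn : ∀ s ∈ S24, ∀ a ∈ N, s * a * s⁻¹ ∈ N) : ∃ i < 23, (N : Set TwoGroup) = nSet i := by
  classical
  have hex : 0 ∈ (Finset.range 23).filter fun i => nSet i ⊆ (N : Set TwoGroup) := by
    rw [Finset.mem_filter, Finset.mem_range]
    refine ⟨by norm_num, ?_⟩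
    rintro a ⟨p, hp, hr⟩
    obtain ⟨h0, h1, -⟩ := start_ok
    obtain ⟨q, hq⟩ := List.length_eq_one_iff.1 h1
    rw [hq] at hp h0
    simp only [List.mem_singleton] at hp
    simp only [List.getD_cons_zero] at h0
    rw [hp, Nat.eq_of_beq_eq_true h0] at hr
    rw [kPts_ext (a := a) (b := 1) hr (by rw [map_one]; exact rep_idP)]
    exact one_mem N
  obtain ⟨i, hi, hmax⟩ := ((Finset.range 23).filter fun i => nSet i ⊆ (N : Set TwoGroup)).exists_max_image
    (fun i => (nSet i).ncard) ⟨0, hex⟩
  rw [Finset.mem_filter, Finset.mem_range] at hi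
  obtain ⟨hi23, hsub⟩ := hi
  refine ⟨i, hi23, Set.Subset.antisymm ?_ hsub⟩
  by_contra hne
  have hcomm : ∀ a ∈ N, ∀ b ∈ N, a * b = b * a := fun a ha b hb => by
    have h := hsq _ (mul_mem ha hb)
    have ia := inv_eq_of_mul_eq_one_right (hsq a ha)
    have ib := inv_eq_of_mul_eq_one_right (hsq b hb)
    have := eq_inv_of_mul_eq_one_left h
    rwa [mul_inv_rev, ia, ib] at this
  obtain ⟨p, hpN, hpi, hfix⟩ := exists_fixed hi23 hle hsub hne hn
  obtain ⟨k, hk, hrp⟩ := S24_elt (hle hpN)
  have hpn : ¬ nMem (sEl k) i = true := fun hm => by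
    simp only [nMem, List.any_eq_true] at hm
    obtain ⟨y, hy, e⟩ := hm
    exact hpi ⟨y, hy, (Nat.eq_of_beq_eq_true e).symm ▸ hrp⟩
  have hpinv : ∃ y ∈ sylInvs, y = sEl k := by
    have h := List.all_eq_true.1 invs_ok k (List.mem_range.2 hk)
    simp only [Bool.or_eq_true, Bool.not_eq_true', List.any_eq_true] at h
    rcases h with (h | h) | ⟨y, hy, e⟩
    · have hpp : comp (sEl k) (sEl k) = idP := by
        have hr2 : Rep (kPts (1 : TwoGroup)) (comp (sEl k) (sEl k)) := by
          rw [← hsq p hpN, map_mul]; exact rep_comp hrp hrp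
        rw [J4Iso.comp_eq]
        rw [J4Iso.comp_eq] at hr2
        rw [← idP_eq]
        congr 1
        refine List.map_congr_left fun j hj => ?_
        rw [Concrete.mem_bits24] at hj
        have a1 := hrp (kPts p⁻¹ (Concrete.gpt ⟨j, hj⟩))
        have a2 := hrp.apply ⟨j, hj⟩
        have a3 : kPts p (kPts p (Concrete.gpt ⟨j, hj⟩)) = Concrete.gpt ⟨j, hj⟩ := by
          rw [← Equiv.Perm.mul_apply, ← map_mul, hsq p hpN, map_one]; rfl
        have a4 := hrp (kPts p (Concrete.gpt ⟨j, hj⟩))
        rw [a3, Concrete.gidx_gpt, a2] at a4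
        exact a4.symm
      rw [hpp, Nat.beq_refl] at h
      exact Bool.noConfusion h
    · exfalso
      rw [Nat.eq_of_beq_eq_true h] at hrp
      obtain ⟨h0, h1, -⟩ := start_ok
      have : p = 1 := kPts_ext hrp (by rw [map_one]; exact rep_idP)
      exact hpi (one_mem_nSet this hi23)
    · exact ⟨y, hy, Nat.eq_of_beq_eq_true e⟩
  obtain ⟨y, hy, rfl⟩ := hpinv
  have hs := List.all_eq_true.1 (List.all_eq_true.1 steps_ok i (List.mem_range.2 hi23)) _ hy
  simp only [stepOK, Bool.or_eq_true, List.any_eq_true, Bool.and_eq_true, List.all_eq_true,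
    Bool.not_eq_true', List.mem_range] at hs
  rcases hs with ((hs | ⟨g, hg, hs⟩) | ⟨x, hx, hs⟩) | ⟨j, hj, ⟨hpj, hij⟩, hji⟩
  · exact hpn hs
  · obtain ⟨z, hz, hrz⟩ := hfix (sylGen g) (sylGen_mem hg)
    rw [inv_eq_of_mul_eq_one_right (hsq p hpN)] at hrz
    have hr2 : Rep (kPts (p * (sylGen g * p * (sylGen g)⁻¹)))
        (comp (sEl k) (comp (comp (sGen g) (sEl k)) (sGinv g))) := by
      rw [map_mul, map_mul, map_mul]
      exact rep_comp hrp (rep_comp (rep_comp (sylGen_rep hg) hrp) (sylGen_inv hg))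
    simp only [J4Iso.getN, Nat.beq_refl, cond_true] at hs
    have hm : nMem (comp (sEl k) (comp (comp (sGen g) (sEl k)) (sGinv g))) i = true := by
      simp only [nMem, List.any_eq_true]
      refine ⟨z, hz, ?_⟩
      rw [norm_eq i hi23 z hz hrz (comp_norm _ _) hr2, Nat.beq_refl]
    rw [hm] at hs
    exact Bool.noConfusion hs
  · obtain ⟨a, ha⟩ := exists_elt i hi23 x hx
    have haN : a ∈ N := hsub ⟨x, hx, ha⟩
    have h1 : Rep (kPts (a * p)) (comp x (sEl k)) := by rw [map_mul]; exact rep_comp ha hrp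
    have h2 : Rep (kPts (a * p)) (comp (sEl k) x) := by
      rw [hcomm a haN p hpN, map_mul]; exact rep_comp hrp ha
    rw [pack_unique (comp_norm _ _) (comp_norm _ _) h1 h2, Nat.beq_refl] at hs
    exact Bool.noConfusion hs
  · have hlt : nSet i ⊂ nSet j := by
      refine Set.ssubset_iff_subset_ne.2 ⟨?_, ?_⟩
      · rintro a ⟨x, hx, ha⟩
        have := hij x hx
        simp only [nMem, List.any_eq_true] at this
        obtain ⟨z, hz, e⟩ := this
        exact ⟨z, hz, (Nat.eq_of_beq_eq_true e).symm ▸ ha⟩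
      · intro e
        simp only [nMem, List.any_eq_true] at hpj
        obtain ⟨z, hz, ez⟩ := hpj
        exact hpi (e ▸ ⟨z, hz, (Nat.eq_of_beq_eq_true ez).symm ▸ hrp⟩)
    have hjN : nSet j ⊆ (N : Set TwoGroup) := by
      rintro a ⟨x, hx, ha⟩
      rcases hji x hx with hm | hm <;> simp only [nMem, List.any_eq_true] at hm <;>
        obtain ⟨z, hz, e⟩ := hm
      · exact hsub ⟨z, hz, (Nat.eq_of_beq_eq_true e).symm ▸ ha⟩
      · have hpa : p * a ∈ N := hsub ⟨z, hz, by
          rw [Nat.eq_of_beq_eq_true e, map_mul]; exact rep_comp hrp ha⟩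
        have := mul_mem hpN hpa
        rwa [← mul_assoc, hsq p hpN, one_mul] at this
    have := hmax j (by rw [Finset.mem_filter, Finset.mem_range]; exact ⟨hj, hjN⟩)
    exact absurd this (not_le.2 (Set.ncard_lt_ncard hlt (Set.toFinite _)))
where
  idP_eq : Concrete.packList (Concrete.bits24.map fun i => i) = idP := by decide +kernel
  comp_norm (p q : ℕ) : ∃ r s, comp p q = comp r s := ⟨p, q, rfl⟩
  pack_unique {g : Equiv.Perm GolayPt} {p q : ℕ} (hp : ∃ r s, p = comp r s) (hq : ∃ r s, q = comp r s)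
      (h1 : Rep g p) (h2 : Rep g q) : p = q := by
    obtain ⟨r, s, rfl⟩ := hp
    obtain ⟨r', s', rfl⟩ := hq
    rw [J4Iso.comp_eq, J4Iso.comp_eq]
    congr 1
    refine List.map_congr_left fun i hi => ?_
    rw [Concrete.mem_bits24] at hi
    have := J4Iso.rep_pget_eq h1 h2 hi
    rwa [J4Iso.pget_comp _ _ hi, J4Iso.pget_comp _ _ hi] at this
  list_norm : ((List.range 23).all fun i => (sylNormals.getD i []).all fun x =>
      Nat.beq (comp x idP) x) = true := by decide +kernel
  norm_eq (i : ℕ) (hi : i < 23) {g : Equiv.Perm GolayPt} (z : ℕ) (hz : z ∈ sylNormals.getD i [])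
      (hrz : Rep g z) {q : ℕ} (hq : ∃ r s, q = comp r s) (hr : Rep g q) : z = q :=
    pack_unique ⟨z, idP, (Nat.eq_of_beq_eq_true
      (List.all_eq_true.1 (List.all_eq_true.1 list_norm i (List.mem_range.2 hi)) z hz)).symm⟩ hq hrz hr
  list_syl : ((List.range 23).all fun i => (sylNormals.getD i []).all fun x =>
      (List.range 1024).any fun k => Nat.beq (sEl k) x) = true := by decide +kernel
  exists_elt (i : ℕ) (hi : i < 23) (x : ℕ) (hx : x ∈ sylNormals.getD i []) :
      ∃ a : TwoGroup, Rep (kPts a) x := by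
    have h := List.all_eq_true.1 (List.all_eq_true.1 list_syl i (List.mem_range.2 hi)) x hx
    simp only [List.any_eq_true, List.mem_range] at h
    obtain ⟨k, hk, e⟩ := h
    obtain ⟨a, -, ha⟩ := S24_reach k hk
    exact ⟨a, Nat.eq_of_beq_eq_true e ▸ ha⟩
  one_ok : ((List.range 23).all fun i => nMem idP i) = true := by decide +kernel
  one_mem_nSet {p : TwoGroup} (hp : p = 1) {i : ℕ} (hi : i < 23) : p ∈ nSet i := by
    have h := List.all_eq_true.1 one_ok i (List.mem_range.2 hi)
    simp only [nMem, List.any_eq_true] at h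
    obtain ⟨y, hy, e⟩ := h
    exact ⟨y, hy, by rw [Nat.eq_of_beq_eq_true e, hp, map_one]; exact rep_idP⟩
  exists_fixed {N : Subgroup TwoGroup} {i : ℕ} (hi : i < 23) (hle : N ≤ S24)
      (hsub : nSet i ⊆ (N : Set TwoGroup)) (hne : ¬ (N : Set TwoGroup) ⊆ nSet i)
      (hn : ∀ s ∈ S24, ∀ a ∈ N, s * a * s⁻¹ ∈ N) :
      ∃ p ∈ N, p ∉ nSet i ∧ ∀ s ∈ S24, ∃ z ∈ sylNormals.getD i [],
        Rep (kPts (p⁻¹ * (s * p * s⁻¹))) z := by
    let K : Subgroup TwoGroup := nSub i hi
    let K' := K.subgroupOf S24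
    let N' := N.subgroupOf S24
    haveI hK' : K'.Normal := ⟨fun a ha x => nSub_conj hi x.2 ha⟩
    haveI hN' : N'.Normal := ⟨fun a ha x => hn _ x.2 _ ha⟩
    let π := QuotientGroup.mk' K'
    haveI hM : (N'.map π).Normal := Subgroup.Normal.map hN' π (QuotientGroup.mk'_surjective _)
    haveI : Fact (Nat.Prime 2) := ⟨Nat.prime_two⟩
    have hQ : IsPGroup 2 (S24 ⧸ K') :=
      (IsPGroup.of_card (n := 10) (by rw [card_S24]; norm_num)).to_quotient K'
    have hne' : N'.map π ≠ ⊥ := fun e => hne fun a ha => by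
      have : π ⟨a, hle ha⟩ ∈ N'.map π := Subgroup.mem_map_of_mem π (show ⟨a, hle ha⟩ ∈ N' from ha)
      rw [e, Subgroup.mem_bot, QuotientGroup.mk'_apply, QuotientGroup.eq_one_iff] at this
      exact this
    have hdvd : 2 ∣ Nat.card (N'.map π) := by
      obtain ⟨n, hn'⟩ := IsPGroup.iff_card.1 (hQ.to_subgroup (N'.map π))
      rw [hn']
      refine dvd_pow_self 2 fun h0 => hne' (Subgroup.eq_bot_of_card_eq _ ?_)
      rw [hn', h0, pow_zero]
    have hC : IsPGroup 2 (ConjAct (S24 ⧸ K')) := hQ.of_equiv ConjAct.toConjAct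
    obtain ⟨b, hb, hb1⟩ := hC.exists_fixed_point_of_prime_dvd_card_of_fixed_point (N'.map π) hdvd
      (a := 1) (fun x => smul_one x)
    obtain ⟨p, hp, hpb⟩ := b.2
    refine ⟨p.1, hp, fun h => hb1 (Subtype.ext ?_), fun s hs => ?_⟩
    · rw [← hpb, QuotientGroup.mk'_apply, Subgroup.coe_one, eq_comm, QuotientGroup.eq_one_iff]
      exact h
    · have h := congrArg Subtype.val (hb (ConjAct.toConjAct (π ⟨s, hs⟩)))
      rw [ConjAct.Subgroup.val_conj_smul, ConjAct.toConjAct_smul, ← hpb, ← map_inv, ← map_mul, ← map_mul,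
        eq_comm, QuotientGroup.mk'_apply, QuotientGroup.mk'_apply, QuotientGroup.eq] at h
      exact h

end Cfsg.Lib.J4Aut
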