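import Cfsg.Agent.Lib.J4Aut.Steps
import Cfsg.Agent.Lib.J4Aut.DataThird

/-!
# Every automorphism is inner
-/

set_option autoImplicit false
set_option maxRecDepth 20000

namespace Cfsg.Lib.J4Aut

open Cfsg.Lib.J4Iso
open Cfsg.Lib.J4Pres (TwoGroup twoGen)
open Cfsg.Lib.J4Real (jp wp wp_apply wp_winv winv wp_append wp_single kPts rows centVecs vecAt
  vecAt_val sameW sameW_wp eL eLn)
open Cfsg.Lib.J4Mult (swapL el_swap relWords_el)
open Cfsg.Lib.Concrete (Rep pget bits24)
open Cfsg.Lib.J4Pres (applyWord)

/-- A letter in the letters of the matrices. -/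
def realL (g : ℕ) : ℕ := [0, 3, 1, 4].getD g 0

/-- The word of the second generator of the trio stabiliser. -/
def w9el : List ℕ := [2, 0, 2, 0, 3, 0, 3, 0, 2, 0, 2, 0, 2]

/-- The two generators of the trio stabiliser. -/
def selWord (k : ℕ) : List ℕ := if k = 0 then [0] else w9el

/-- A product of them. -/
def selProd (L : List ℕ) : List ℕ := L.flatMap selWord

/-- The word of a conjugate of a twisted generator with the chosen conjugator. -/
def moveWord (o : ℕ) (w : List ℕ) : List ℕ :=
  [2] ++ (eL o ++ (w.map realL ++ ([2] ++ toChosen.map realL)))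

/-- The vectors surviving two twisted generators are among the listed. -/
noncomputable def survOK (L : List (ℕ × List ℕ)) (S : List ℕ) : Bool :=
  (List.range 77).all fun i => (S.any fun s => Nat.beq s i) || L.any fun e =>
    (moveWord e.1 e.2).all (fun g => Nat.blt g 20) &&
    !(Nat.beq (applyWord rows (moveWord e.1 e.2) (centVecs.getD i 0))
      (applyWord rows (toChosen.map realL) (centVecs.getD i 0)))

theorem surv_ok : survOK [(0, [0]), (0, w9el)] [0, 1] = true ∧
    survOK [(1939, [0]), (1149, w9el)] [1, 4] = true :=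
  ⟨by decide +kernel, by decide +kernel⟩

theorem emask_ok : emask 11 1 = 298 ∧ emask 11 1852 = 494 ∧ emask 11 1939 = 660 ∧
    emask 11 1149 = 949 ∧ emask 11 0 = 0 ∧ emask 11 3 = 1101 :=
  ⟨by decide +kernel, by decide +kernel, by decide +kernel, by decide +kernel, by decide +kernel,
    by decide +kernel⟩

theorem act_chosen : actW toChosen 298 % 2048 = 494 := by decide +kernel

theorem run_ok : runD [0] 660 % 2048 = 660 ∧ runD w9el 660 % 2048 = 949 ∧ runD [0] 0 % 2048 = 0 ∧
    runD w9el 0 % 2048 = 0 ∧ runD (selProd starSel) 660 % 2048 = 0 :=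
  ⟨by decide +kernel, by decide +kernel, by decide +kernel, by decide +kernel, by decide +kernel⟩

theorem chosen_ok : sameW ([2] ++ (eL 1852 ++ [2])) (eL 1852) = true := by decide +kernel

theorem star_ok : sameW (winv survWord ++ ((selProd starSel).map realL ++ survWord)) (eL 3) = true := by
  decide +kernel

theorem vec_one : applyWord rows (toChosen.map realL) (centVecs.getD 1 0) =
    applyWord rows [2] (centVecs.getD 0 0) := by decide +kernel

theorem vec_four : applyWord rows ([2] ++ toChosen.map realL) (centVecs.getD 4 0) =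
    applyWord rows survWord (centVecs.getD 0 0) := by decide +kernel

theorem surv_low : J4Real.low survWord = true := by decide +kernel

theorem chosen_lt : ∀ g ∈ toChosen, g < 4 := by decide +kernel

theorem chosen_real : ∀ g ∈ toChosen.map realL, g < 20 := by decide +kernel

theorem star_lt : ∀ g ∈ selProd starSel, g < 4 := by decide +kernel

theorem stab_only : ((List.range 2048).all fun v => !(Nat.beq (actW [0] v % 2048) v) ||
    !(Nat.beq (actW w9el v % 2048) v) || Nat.beq v 0) = true := by decide +kernel

/-- The packed permutation of a word in the four letters. -/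
noncomputable def elPerm (w : List ℕ) : ℕ := w.foldr (fun g p => comp (tP g) p) idP

theorem rep_el : ∀ w : List ℕ, Rep (kPts (w.map el).prod) (elPerm w)
  | [] => by simpa [elPerm] using rep_idP
  | g :: w => by
    rw [List.map_cons, List.prod_cons, map_mul]
    exact rep_comp (el_rep g) (rep_el w)

theorem perms_ok : ((List.range 24).all fun z => (reachSel.getD z []).all (fun k => Nat.blt k 2) &&
    Nat.beq (pget (elPerm (selProd (reachSel.getD z []))) 0) z) = true ∧
    (onlySel.all fun k => Nat.blt k 2) = true ∧ Nat.beq (pget (elPerm (selProd onlySel)) 0) 0 = true ∧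
    ((List.range 24).all fun y => Nat.beq y 0 ||
      !(Nat.beq (pget (elPerm (selProd onlySel)) y) y)) = true ∧
    ((List.range 24).any fun i => !(Nat.beq (pget (elPerm (selProd starSel)) i) i)) = true :=
  ⟨by decide +kernel, by decide +kernel, by decide +kernel, by decide +kernel, by decide +kernel⟩

theorem piG_kG_el {w : List ℕ} (hw : ∀ g ∈ w, g < 4) :
    piG (kG (w.map el).prod) = wp (w.map realL) := by
  have h1 : w.map el = (w.map swapL).map twoGen := by
    rw [List.map_map]
    refine List.map_congr_left fun g hg => ?_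
    have h4 := hw g hg
    rw [Function.comp_apply, ← el_swap _ (by interval_cases g <;> decide)]
    congr 1
    interval_cases g <;> decide
  have h2 : (w.map swapL).map J4Real.kLetter = w.map realL := by
    rw [List.map_map]
    refine List.map_congr_left fun g hg => ?_
    have h4 := hw g hg
    interval_cases g <;> rfl
  rw [h1, piG_kG_word, h2]
  simp only [List.mem_map]
  rintro g ⟨a, ha, rfl⟩
  have h4 := hw a ha
  interval_cases a <;> decide

theorem eG_of_eq {o f : ℕ} (h : emask 11 o = f) : eG f = eW' o := by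
  rw [eW'_eq, h]

theorem eG_of_mod {o f x : ℕ} (hx : x % 2048 = f) (h : emask 11 o = f) : eG x = eW' o := by
  rw [← eG_mod x, hx, eG_of_eq h]

theorem piG_eW'_wp (o : ℕ) : piG (eW' o) = wp (eL o) := piG_eW' o

theorem eL_lt (o : ℕ) : ∀ g ∈ eL o, g < 20 := by
  have key : ∀ n ≤ 11, ∀ g ∈ eLn n o, g < 17 := by
    intro n
    induction n with
    | zero => intro _ g hg; simp [eLn] at hg
    | succ n ih =>
      intro hn g hg
      rw [eLn, List.mem_append] at hg
      rcases hg with hg | hg
      · exact ih (by omega) g hg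
      · cases h : o.testBit n <;> rw [h] at hg <;> simp at hg
        omega
  exact fun g hg => lt_trans (key 11 le_rfl g hg) (by norm_num)

/-- The automorphisms in normal form. -/
structure Normal (χ : MulAut PG) (d : ℕ) : Prop where
  fix : ∀ v, χ (eG v) = eG v
  sec : χ (kG (el 2)) = kG (el 2)
  fst : χ (kG (el 0)) = eG d * kG (el 0)

variable {χ : MulAut PG} {d : ℕ}

theorem Normal.word (N : Normal χ d) : ∀ w : List ℕ, (∀ g ∈ w, g < 4) →
    χ (kG (w.map el).prod) = eG (runD w d) * kG (w.map el).prod
  | [], _ => by simp [runD, eG_zero]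
  | a :: w, hw => by
    have ha := hw a (by simp)
    have h01 : el 1 = el 0 := by
      have h := relWords_el [0, 0] (by decide +kernel)
      have h' := relWords_el [0, 1] (by decide +kernel)
      simp only [List.map_cons, List.map_nil, List.prod_cons, List.prod_nil, mul_one] at h h'
      exact mul_left_cancel (h'.trans h.symm)
    have h3 : χ (kG (el 3)) = kG (el 3) := by
      rw [show (3 : ℕ) = Nat.xor 2 1 from rfl, el_xor, map_inv, map_inv, N.sec]
    rw [List.map_cons, List.prod_cons, map_mul, map_mul,
      N.word w fun c hc => hw c (List.mem_cons_of_mem _ hc), runD, ← eG_mul]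
    have hgen : χ (kG (el a)) = eG (cond (Nat.blt a 2) d 0) * kG (el a) := by
      interval_cases a
      · exact N.fst
      · rw [h01]; exact N.fst
      · rw [N.sec, show Nat.blt 2 2 = false from rfl, cond_false, eG_zero, one_mul]
      · rw [h3, show Nat.blt 3 2 = false from rfl, cond_false, eG_zero, one_mul]
    rw [hgen, mul_assoc, ← mul_assoc (kG (el a)), eG_conj (el a) (tP a) _ (el_rep a)]
    simp [mul_assoc]

theorem sel_lt {k : ℕ} : ∀ g ∈ selWord k, g < 4 := by
  unfold selWord
  split_ifs <;> decide

theorem sel_commute (k : ℕ) : Commute (kG ((selWord k).map el).prod) gt := by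
  unfold selWord
  split_ifs
  · simpa [el_first.1] using x_commute
  · have h : w9el.map el = w9.map twoGen := by
      obtain ⟨e0, -, e2, e3⟩ := el_first
      simp [w9el, w9, e0, e2, e3]
    rw [h]
    exact w9_commute

theorem mem_MG_sel {v : ℕ} (a : TwoGroup) : eG v * kG a ∈ MG := ⟨v, a, rfl⟩

/-- The image of the third generator is not in `2^11:M24`. -/
theorem image_not_mem (N : Normal χ d) : χ gt ∉ MG := by
  intro hm
  have hx : χ (kG (twoGen 0)) ∈ MG := by
    rw [← el_first.1, N.fst]; exact ⟨_, _, rfl⟩
  have hy : χ (kG (twoGen 1)) ∈ MG := by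
    rw [← el_first.2.2.1, N.sec]; exact kG_mem_MG _
  have hall : ∀ z, χ z ∈ MG := by
    intro z
    have hz : z ∈ Subgroup.closure (Set.range (PresentedGroup.of : Spor.J4.Gen → PG)) := by
      rw [PresentedGroup.closure_range_of]; trivial
    induction hz using Subgroup.closure_induction with
    | mem w hw =>
      obtain ⟨b, rfl⟩ := hw
      cases b
      · exact (kG_gen 0 (by norm_num) ▸ hx : χ (J4Pres.xyLetter 0) ∈ MG)
      · exact (kG_gen 1 (by norm_num) ▸ hy : χ (J4Pres.xyLetter 1) ∈ MG)
      · exact hm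
    | one => rw [map_one]; exact one_mem _
    | mul a b _ _ ha hb => rw [map_mul]; exact mul_mem ha hb
    | inv a _ ha => rw [map_inv]; exact inv_mem ha
  have htop : MG = ⊤ := eq_top_iff.2 fun z _ => by
    obtain ⟨w, rfl⟩ := χ.surjective z
    exact hall w
  have h := card_MG
  rw [htop, Subgroup.card_top, card_PG] at h
  norm_num at h

/-- The translate of the image of the third generator. -/
noncomputable def shift (χ : MulAut PG) : PG := gt * χ gt

/-- The possible images of the fixed vector. -/
theorem surv_vec (N : Normal χ d) {L : List (ℕ × List ℕ)} {S : List ℕ} (hS : survOK L S = true)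
    (hL : ∀ e ∈ L, ∃ k, e.2 = selWord k ∧ eG (runD e.2 d) = eW' e.1) :
    ∃ i ∈ S, piG (shift χ) (vecAt 0) = piG (kG (toChosen.map el).prod) (vecAt i) := by
  have hA := chosen_lt
  set pa := kG (toChosen.map el).prod with hpa
  have hconj : pa * eG 298 = eG 494 * pa := by
    rw [hpa, kG_eG_word, ← eG_mod (actW toChosen 298), act_chosen]
  have ht : gt * eG 494 * gt = eG 494 := by
    refine piG_injective ?_
    rw [map_mul, map_mul, piG_gt, eG_of_eq emask_ok.2.1, piG_eW'_wp, ← wp_single, ← wp_append, ← wp_append,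
      List.append_assoc]
    exact sameW_wp chosen_ok
  have hTz : χ gt * eG 494 * χ gt = eG 494 := by
    rw [← N.fix 494, ← map_mul, ← map_mul, ht]
  have hu : Commute (shift χ) (eG 494) := by
    have h1 : χ gt * χ gt = 1 := by rw [← map_mul, gt_sq, map_one]
    have h2 : χ gt * eG 494 = eG 494 * χ gt := by
      conv_rhs => rw [← hTz]
      rw [mul_assoc, h1, mul_one]
    have h3 : gt * eG 494 = eG 494 * gt := by
      conv_rhs => rw [← ht]
      rw [mul_assoc, gt_sq, mul_one]
    exact Commute.mul_left h3 h2
  have hcz : piG (pa⁻¹ * shift χ * pa) ∈ J4Real.Cz := by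
    refine Subgroup.mem_inf.2 ⟨?_, ?_⟩
    · rw [← isoG_val]; exact (isoG _).2
    · rw [Subgroup.mem_centralizer_singleton_iff]
      have hz : J4Real.zEl = piG (eG 298) := by
        rw [eG_of_eq emask_ok.1, piG_eW']
        exact congrArg J4Real.eW (show J4Real.zMask = 1 from rfl)
      rw [hz, ← map_mul, ← map_mul]
      congr 1
      have hc : pa * eG 298 * pa⁻¹ = eG 494 := by rw [hconj, mul_inv_cancel_right]
      calc pa⁻¹ * shift χ * pa * eG 298
          = pa⁻¹ * (shift χ * (pa * eG 298 * pa⁻¹)) * pa := by group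
        _ = pa⁻¹ * ((pa * eG 298 * pa⁻¹) * shift χ) * pa := by rw [hc, hu.eq]
        _ = eG 298 * (pa⁻¹ * shift χ * pa) := by group
  obtain ⟨i, hi, hvi⟩ := cent_vec hcz
  have hpv : piG (shift χ) (vecAt 0) = piG pa (vecAt i) := by
    rw [← hvi, ← Equiv.Perm.mul_apply, ← map_mul, mul_assoc, mul_inv_cancel_left, map_mul,
      Equiv.Perm.mul_apply, piG_MG_fix (kG_mem_MG _)]
  refine ⟨i, ?_, hpv⟩
  have h := List.all_eq_true.1 hS i (List.mem_range.2 hi)
  simp only [Bool.or_eq_true, List.any_eq_true, Bool.and_eq_true, List.all_eq_true, Nat.blt_eq,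
    Bool.not_eq_true'] at h
  rcases h with ⟨s, hs, e⟩ | ⟨e, he, hlt, hne⟩
  · exact Nat.eq_of_beq_eq_true e ▸ hs
  exfalso
  obtain ⟨k, hk, hf⟩ := hL e he
  have hwlt : ∀ g ∈ e.2, g < 4 := hk ▸ sel_lt
  set h' := eG (runD e.2 d) * kG (e.2.map el).prod with hh'
  have hT : Commute (χ gt) h' := by
    rw [hh', ← N.word _ hwlt, hk]
    exact ((sel_commute k).symm.map χ.toMonoidHom)
  have hrel : gt * h' * gt * shift χ = shift χ * h' := by
    rw [shift, mul_assoc (gt * h'), ← mul_assoc gt gt, gt_sq, one_mul, mul_assoc gt h',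
      mul_assoc gt (χ gt), hT.eq]
  have hfix : piG (gt * h' * gt) (piG pa (vecAt i)) = piG pa (vecAt i) := by
    rw [← hpv, ← Equiv.Perm.mul_apply, ← map_mul, hrel, map_mul, Equiv.Perm.mul_apply,
      piG_MG_fix (mem_MG_sel _)]
  have ew : piG (gt * h' * gt) * piG pa = wp (moveWord e.1 e.2) := by
    rw [hh', hf, map_mul, map_mul, map_mul, piG_gt, piG_eW'_wp, piG_kG_el hwlt, hpa, piG_kG_el hA,
      moveWord, wp_append, wp_append, wp_append, wp_append, wp_single]
    simp only [mul_assoc]
  have ev := congrArg Subtype.val hfix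
  rw [← Equiv.Perm.mul_apply, ew, hpa, piG_kG_el hA, wp_apply _ hlt,
    wp_apply _ chosen_real, vecAt_val hi] at ev
  rw [ev, Nat.beq_refl] at hne
  exact Bool.noConfusion hne

theorem T_eq : χ gt = gt * shift χ := by rw [shift, ← mul_assoc, gt_sq, one_mul]

theorem no_second (N : Normal χ d) :
    piG (shift χ) (vecAt 0) ≠ piG (kG (toChosen.map el).prod) (vecAt 1) := by
  intro h
  refine image_not_mem N (mem_MG_of_fix ?_)
  have e : piG (kG (toChosen.map el).prod) (vecAt 1) = jp 2 (vecAt 0) := by
    refine Subtype.ext ?_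
    rw [piG_kG_el chosen_lt, ← wp_single, wp_apply _ chosen_real, wp_apply _ (by simp),
      vecAt_val (by norm_num), vecAt_val (by norm_num)]
    exact vec_one
  rw [T_eq, map_mul, Equiv.Perm.mul_apply, h, e, ← piG_gt, ← Equiv.Perm.mul_apply, ← map_mul, gt_sq,
    map_one, Equiv.Perm.one_apply]

theorem Normal.inner_zero (N : Normal χ 0) : χ = 1 := by
  have hk0 : ∀ a, χ (kG a) = kG a := by
    intro a
    have h : χ.toMonoidHom.comp kG = kG := MonoidHom.eq_of_eqOn_dense J4Pres.twoGen_gen (by
      rintro _ ⟨g, hg, rfl⟩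
      have hg' : g < 2 := hg
      show χ (kG (twoGen g)) = _
      interval_cases g
      · rw [← el_first.1, N.fst, eG_zero, one_mul]
      · rw [← el_first.2.2.1, N.sec])
    exact DFunLike.congr_fun h a
  obtain ⟨i, hi, hv⟩ := surv_vec N surv_ok.1 (fun e he => by
    simp only [List.mem_cons, List.not_mem_nil, or_false] at he
    rcases he with rfl | rfl
    · exact ⟨0, rfl, eG_of_mod run_ok.2.2.1 emask_ok.2.2.2.2.1⟩
    · exact ⟨1, rfl, eG_of_mod run_ok.2.2.2.1 emask_ok.2.2.2.2.1⟩)
  simp only [List.mem_cons, List.not_mem_nil, or_false] at hi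
  rcases hi with rfl | rfl
  swap
  · exact absurd hv (no_second N)
  have hu : shift χ ∈ MG := mem_MG_of_fix (hv.trans (piG_MG_fix (kG_mem_MG _)))
  obtain ⟨v, b, hvb⟩ := hu
  have hcomm : ∀ k, Commute (shift χ) (kG ((selWord k).map el).prod) := fun k => by
    refine Commute.mul_left (sel_commute k).symm ?_
    have h := (sel_commute k).symm.map χ.toMonoidHom
    rwa [show χ.toMonoidHom (kG _) = kG _ from hk0 _] at h
  have hfix : ∀ k, actW (selWord k) (v % 2048) % 2048 = v % 2048 ∧
      b * ((selWord k).map el).prod = ((selWord k).map el).prod * b := by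
    intro k
    have e := (hcomm k).eq
    rw [hvb, ← eG_mod v, mul_assoc, ← map_mul, ← mul_assoc (kG _), kG_eG_word, mul_assoc, ← map_mul] at e
    obtain ⟨h1, h2⟩ := unique_pair e
    rw [Nat.mod_mod] at h1
    exact ⟨h1.symm, h2⟩
  have hv0 : v % 2048 = 0 := by
    have h := List.all_eq_true.1 stab_only (v % 2048) (List.mem_range.2 (Nat.mod_lt _ (by norm_num)))
    have e0 := (hfix 0).1
    have e1 := (hfix 1).1
    simp only [selWord, if_pos, one_ne_zero, if_false] at e0 e1
    rw [e0, e1, Nat.beq_refl] at h
    simpa using h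
  have hb : b = 1 := by
    have hall : ∀ L : List ℕ, b * ((selProd L).map el).prod = ((selProd L).map el).prod * b := by
      intro L
      induction L with
      | nil => simp [selProd]
      | cons k L ih =>
        rw [selProd, List.flatMap_cons, List.map_append, List.prod_append, ← mul_assoc, (hfix k).2,
          mul_assoc, ← selProd, ih, mul_assoc]
    obtain ⟨hp1, -, hp3, hp4, -⟩ := perms_ok
    set s := ((selProd onlySel).map el).prod
    set o := Concrete.gpt (⟨0, by norm_num⟩ : Fin 24)
    have happ : ∀ (a c : TwoGroup) (x : GolayPt), a * c = c * a →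
        kPts a (kPts c x) = kPts c (kPts a x) := fun a c x h => by
      rw [← Equiv.Perm.mul_apply, ← Equiv.Perm.mul_apply, ← map_mul, ← map_mul, h]
    have h0 : kPts b o = o := by
      have hs0 : kPts s o = o := Concrete.gidx_injective (Fin.ext (by
        rw [rep_el (selProd onlySel) o, Concrete.gidx_gpt]; exact Nat.eq_of_beq_eq_true hp3))
      have hb0 := happ b s o (hall onlySel)
      rw [hs0] at hb0
      set y := kPts b o
      have hy := List.all_eq_true.1 hp4 (Concrete.gidx y).val (List.mem_range.2 (Concrete.gidx y).isLt)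
      simp only [Bool.or_eq_true, Bool.not_eq_true'] at hy
      rcases hy with hy | hy
      · refine Concrete.gidx_injective (Fin.ext ?_)
        rw [Nat.eq_of_beq_eq_true hy, Concrete.gidx_gpt]
      · have := rep_el (selProd onlySel) y
        rw [← hb0] at this
        rw [← this, Nat.beq_refl] at hy
        exact Bool.noConfusion hy
    refine J4Real.kPts_spec.1 (Equiv.ext fun x => ?_)
    rw [map_one, Equiv.Perm.one_apply]
    have hz := List.all_eq_true.1 hp1 (Concrete.gidx x).val (List.mem_range.2 (Concrete.gidx x).isLt)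
    simp only [Bool.and_eq_true] at hz
    have hx : kPts ((selProd (reachSel.getD (Concrete.gidx x).val [])).map el).prod o = x :=
      Concrete.gidx_injective (Fin.ext (by
        rw [rep_el _ o, Concrete.gidx_gpt]; exact Nat.eq_of_beq_eq_true hz.2))
    rw [← hx, happ _ _ o (hall _), h0]
  have hone : shift χ = 1 := by rw [hvb, ← eG_mod, hv0, eG_zero, hb, map_one, one_mul]
  have hgt : χ gt = gt := by rw [T_eq, hone, mul_one]
  refine MulEquiv.ext fun z => ?_
  have h : χ.toMonoidHom = MonoidHom.id PG := PresentedGroup.ext fun g => by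
    cases g
    · show χ (J4Pres.xyLetter 0) = J4Pres.xyLetter 0
      rw [← kG_gen 0 (by norm_num), hk0]
    · show χ (J4Pres.xyLetter 1) = J4Pres.xyLetter 1
      rw [← kG_gen 1 (by norm_num), hk0]
    · exact hgt
  exact DFunLike.congr_fun h z

theorem Normal.twist_false (N : Normal χ 660) : False := by
  obtain ⟨i, hi, hv⟩ := surv_vec N surv_ok.2 (fun e he => by
    simp only [List.mem_cons, List.not_mem_nil, or_false] at he
    rcases he with rfl | rfl
    · exact ⟨0, rfl, eG_of_mod run_ok.1 emask_ok.2.2.1⟩
    · exact ⟨1, rfl, eG_of_mod run_ok.2.1 emask_ok.2.2.2.1⟩)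
  simp only [List.mem_cons, List.not_mem_nil, or_false] at hi
  rcases hi with rfl | rfl
  · exact no_second N hv
  set R := gw survWord with hR
  have hpR : piG R = wp survWord := piG_gw surv_low
  have hTv : piG (χ gt) (vecAt 0) = piG R (vecAt 0) := by
    rw [T_eq, map_mul, Equiv.Perm.mul_apply, hv, ← Equiv.Perm.mul_apply, piG_gt,
      piG_kG_el chosen_lt, ← wp_single, ← wp_append, hpR]
    refine Subtype.ext ?_
    rw [wp_apply _ (low_lt surv_low), wp_apply _ (by
      intro g hg
      rcases List.mem_append.1 hg with h | h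
      · rw [List.mem_singleton.1 h]; norm_num
      · exact chosen_real g h), vecAt_val (by norm_num), vecAt_val (by norm_num)]
    exact vec_four
  have hm : R⁻¹ * χ gt ∈ MG := mem_MG_of_fix (by
    rw [map_mul, Equiv.Perm.mul_apply, hTv, ← Equiv.Perm.mul_apply, ← map_mul, inv_mul_cancel,
      map_one, Equiv.Perm.one_apply])
  set a := ((selProd starSel).map el).prod with ha
  have hall : ∀ L : List ℕ, Commute (kG ((selProd L).map el).prod) gt := by
    intro L
    induction L with
    | nil => simp [selProd]
    | cons k L ih =>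
      rw [selProd, List.flatMap_cons, List.map_append, List.prod_append, map_mul]
      exact (sel_commute k).mul_left ih
  have hchi : χ (kG a) = kG a := by
    rw [ha, N.word _ star_lt, ← eG_mod, run_ok.2.2.2.2, eG_zero, one_mul]
  have hT : χ gt * kG a = kG a * χ gt := by
    rw [← hchi, ← map_mul, ← map_mul, ← (hall starSel).eq]
  have hs : R⁻¹ * kG a * R = eG 1101 := by
    refine piG_injective ?_
    rw [map_mul, map_mul, map_inv, hpR, eG_of_eq emask_ok.2.2.2.2.2, piG_eW'_wp, ha,
      piG_kG_el star_lt, ← wp_winv surv_low, ← wp_append, ← wp_append, List.append_assoc]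
    exact sameW_wp star_ok
  have hk : kG a = (R⁻¹ * χ gt)⁻¹ * eG 1101 * (R⁻¹ * χ gt) := by
    rw [← hs]
    calc kG a = (χ gt)⁻¹ * (χ gt * kG a) := by group
      _ = (χ gt)⁻¹ * (kG a * χ gt) := by rw [hT]
      _ = _ := by group
  have hE : kG a ∈ EG := by
    have h := conj_EG (inv_mem hm) (e := eG 1101) ⟨_, rfl⟩
    rwa [inv_inv, ← hk] at h
  obtain ⟨v, hv'⟩ := hE
  have hone : a = 1 := (unique_pair (v := 0) (w := v) (b := 1) (by
    rw [eG_zero, one_mul, hv', map_one, mul_one])).2
  obtain ⟨j, hj, hne⟩ := List.any_eq_true.1 perms_ok.2.2.2.2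
  rw [List.mem_range] at hj
  have h := rep_el (selProd starSel) (Concrete.gpt ⟨j, hj⟩)
  rw [← ha, hone, map_one, Equiv.Perm.one_apply, Concrete.gidx_gpt] at h
  rw [Bool.not_eq_true'] at hne
  simp only at h
  rw [← h, Nat.beq_refl] at hne
  exact Bool.noConfusion hne

/-- The outer automorphism group is trivial. -/
theorem card_out : Nat.card (Cfsg.Out PG) = 1 := by
  rw [Nat.card_eq_one_iff_unique]
  refine ⟨⟨fun a b => ?_⟩, ⟨1⟩⟩
  suffices h : ∀ x : Cfsg.Out PG, x = 1 by rw [h a, h b]
  intro x
  obtain ⟨φ, rfl⟩ := QuotientGroup.mk_surjective x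
  rw [QuotientGroup.eq_one_iff]
  obtain ⟨g, d, h1, h2, h3, hd⟩ := exists_normal_form φ
  have N : Normal (MulAut.conj g * φ) d := ⟨h1, h2, h3⟩
  rcases hd with rfl | rfl
  · refine ⟨g⁻¹, ?_⟩
    have h := N.inner_zero
    rw [mul_eq_one_iff_inv_eq] at h
    rw [map_inv]
    exact h
  · exact N.twist_false.elim

end Cfsg.Lib.J4Aut
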